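import Cfsg.Agent.PF7.KernelRho
import Cfsg.Agent.PF.Parity

/-!
Peterfalvi (7.9): for two kernels with disjoint supports one of the mixed coefficients is odd.
-/

set_option autoImplicit false

namespace Cfsg.Agent.PF7

open Cfsg
open scoped ComplexConjugate Classical

variable {G : Type*} [Group G] [Fintype G]
variable {A : Set G} {L : Subgroup G} [Fintype L] {R : G → Subgroup G} {K : Subgroup L}
variable {τ₁ : (L → ℂ) → (G → ℂ)}

omit [Fintype G] [Fintype L] in
theorem conjFun_dade (α : L → ℂ) :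
    conjFun (dadeIsometry A L R α) = dadeIsometry A L R (conjFun α) := by
  funext g
  simp only [conjFun, dadeIsometry]
  split_ifs <;> simp

theorem inner_conjFun' {X : Type*} [Group X] [Fintype X] (a b : X → ℂ) :
    classInner (conjFun a) (conjFun b) = conj (classInner a b) := by
  rw [CharCore.classInner_def, CharCore.classInner_def, map_mul, map_inv₀, map_natCast, map_sum]
  simp [conjFun]

section One

variable (D : KernelData A L R K τ₁)

include D

/-- The images commute with complex conjugation. -/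
theorem KernelData.tau_conj {ψ : L → ℂ} (h : ψ ∈ inducedIrrAbove K ⊥) :
    conjFun (τ₁ ψ) = τ₁ (conjFun ψ) := by
  have hc := Coherence.seq_conj K h
  set μ := τ₁ ψ with hμ
  set μ' := τ₁ (conjFun ψ) with hμ'
  have e : μ - μ' = dadeIsometry A L R (ψ - conjFun ψ) := by
    rw [← D.agree _ (D.conj_sub_mem h), Coherence.iso_map_sub D.iso (Coherence.zspan_subset h)
      (Coherence.zspan_subset hc) (Coherence.zspan_neg (Coherence.zspan_subset hc))]
  have e' : conjFun μ - conjFun μ' = μ' - μ := by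
    have h1 : conjFun (μ - μ') = dadeIsometry A L R (conjFun ψ - ψ) := by
      rw [e, conjFun_dade]
      congr 1
      funext x; simp [conjFun]
    have h2 : dadeIsometry A L R (conjFun ψ - ψ) = μ' - μ := by
      rw [← neg_sub μ μ', e]
      funext g
      simp only [dadeIsometry, Pi.neg_apply]
      split_ifs <;> simp
    rw [← h2, ← h1]
    funext g; simp [conjFun]
  have hmm : classInner μ μ' = 0 := by
    rw [D.tau_inner h hc, if_neg fun q => D.conj_ne h q.symm]
  have hsigned : IsIrrCharacter G (conjFun μ) ∨ IsIrrCharacter G (-(conjFun μ)) := by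
    rcases D.signed h with s | s
    · exact Or.inl (CharCore.isIrrCharacter_star s)
    · refine Or.inr ?_
      have h' := CharCore.isIrrCharacter_star s
      convert h' using 1
      funext g; simp [conjFun, hμ]
  have hone : classInner (conjFun μ) μ' - classInner (conjFun μ) μ = 1 := by
    rw [← Coherence.inner_sub_right, ← e', Coherence.inner_sub_right, inner_conjFun',
      inner_conjFun', hmm, D.tau_inner h h, if_pos rfl]
    simp
  have hmμ : classInner μ' μ = 0 := by rw [← Coherence.inner_conj_symm, hmm, map_zero]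
  have hμne : μ 1 ≠ 0 := by
    intro h0
    rcases D.signed h with s | s
    · exact Coherence.irr_one_ne_zero s h0
    · exact Coherence.irr_one_ne_zero s (by rw [Pi.neg_apply, ← hμ, h0, neg_zero])
  have hneg : conjFun μ ≠ -μ := by
    intro q
    have q1 := congrFun q 1
    obtain ⟨d, hd⟩ : ∃ d : ℤ, μ 1 = d := by
      obtain ⟨u, v, hu, hv, huv⟩ := D.gen h
      obtain ⟨a, ha, -⟩ := Coherence.char_one_nat hu
      obtain ⟨b, hb, -⟩ := Coherence.char_one_nat hv
      exact ⟨(a : ℤ) - b, by rw [hμ, huv]; simp [ha, hb]⟩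
    simp only [conjFun, Pi.neg_apply, hd, map_intCast] at q1
    refine hμne ?_
    rw [hd]
    linear_combination q1 / 2
  rcases OddChar.signed_eq_or_inner hsigned (D.signed hc) with q | q | q
  · exact q
  · exfalso
    rcases OddChar.signed_eq_or_inner hsigned (D.signed h) with r | r | r
    · rw [r, hmm, D.tau_inner h h, if_pos rfl] at hone
      norm_num at hone
    · exact hneg r
    · rw [r, q, Coherence.inner_neg_left, D.tau_inner hc hc, if_pos rfl] at hone
      norm_num at hone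
  · exfalso
    rw [q] at hone
    rcases OddChar.signed_eq_or_inner hsigned (D.signed h) with r | r | r
    · rw [r, D.tau_inner h h, if_pos rfl] at hone; norm_num at hone
    · exact hneg r
    · rw [r] at hone; norm_num at hone

theorem KernelData.sum_conj (a : ℂ) (ha : conj a = a) :
    conjFun (∑ ψ ∈ Coherence.seqFinset K ⊥, (a * (ψ 1 / (K.index : ℂ))) • τ₁ ψ) =
      ∑ ψ ∈ Coherence.seqFinset K ⊥, (a * (ψ 1 / (K.index : ℂ))) • τ₁ ψ := by
  have hmem : ∀ {ψ : L → ℂ}, ψ ∈ Coherence.seqFinset K ⊥ →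
      conjFun ψ ∈ Coherence.seqFinset K ⊥ := fun h =>
    D.mem_finset.2 (Coherence.seq_conj K (D.mem_finset.1 h))
  have hcc : ∀ ψ : L → ℂ, conjFun (conjFun ψ) = ψ := fun ψ => by funext x; simp [conjFun]
  funext g
  simp only [conjFun, Finset.sum_apply, Pi.smul_apply, smul_eq_mul, map_sum, map_mul, ha, map_div₀,
    map_natCast]
  refine Finset.sum_bij' (fun ψ _ => conjFun ψ) (fun ψ _ => conjFun ψ) (fun _ h => hmem h)
    (fun _ h => hmem h) (fun _ _ => hcc _) (fun _ _ => hcc _) fun ψ hψ => ?_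
  have h1 := congrFun (D.tau_conj (D.mem_finset.1 hψ)) g
  simp only [conjFun] at h1
  rw [h1]
  rfl

end One

section Two

variable {A' : Set G} {L' : Subgroup G} [Fintype L'] {R' : G → Subgroup G} {K' : Subgroup L'}
variable {τ₁' : (L' → ℂ) → (G → ℂ)}
variable (D : KernelData A L R K τ₁) (D' : KernelData A' L' R' K' τ₁')
variable (hdis : Disjoint (Coherence.dadeSupp A R) (Coherence.dadeSupp A' R'))

include D D' hdis

/-- (7.9): one of the two mixed coefficients is odd, in particular non-zero. -/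
theorem KernelData.coeff_parity (hodd : Odd (Nat.card G))
    {ζ : L → ℂ} (hζ : ζ ∈ inducedIrrAbove K ⊥) (hζ1 : ζ 1 = (K.index : ℂ))
    {ζ' : L' → ℂ} (hζ' : ζ' ∈ inducedIrrAbove K' ⊥) (hζ1' : ζ' 1 = (K'.index : ℂ)) :
    ∃ b b' : ℤ, classInner (dadeIsometry A L R (beta K ζ)) (τ₁' ζ') = b ∧
      classInner (dadeIsometry A' L' R' (beta K' ζ')) (τ₁ ζ) = b' ∧ Odd (b + b') := by
  obtain ⟨a, Γ, hΓg, -, hT, hΓ1, hΓo, -, -⟩ := D.beta_decomp hζ hζ1
  obtain ⟨a', Γ', hΓg', -, hT', hΓ1', hΓo', -, -⟩ := D'.beta_decomp hζ' hζ1'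
  have real : ∀ {A : Set G} {L : Subgroup G} [Fintype L] {R : G → Subgroup G} {K : Subgroup L}
      {τ₁ : (L → ℂ) → (G → ℂ)} (D : KernelData A L R K τ₁) {ζ : L → ℂ}
      (hζ : ζ ∈ inducedIrrAbove K ⊥) (hζ1 : ζ 1 = (K.index : ℂ)) (a : ℤ) (Γ : G → ℂ),
      dadeIsometry A L R (beta K ζ) = (fun _ => 1) - τ₁ ζ +
        (∑ ψ ∈ Coherence.seqFinset K ⊥, ((a : ℂ) * (ψ 1 / (K.index : ℂ))) • τ₁ ψ) + Γ →
      conjFun Γ = Γ := by
    intro A L _ R K τ₁ D ζ hζ hζ1 a Γ hT
    have hcz := Coherence.seq_conj K hζ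
    have hb : conjFun (beta K ζ) = beta K ζ + (ζ - conjFun ζ) := by
      have hc0 : conjFun (indFun K (fun _ => (1 : ℂ))) = indFun K (fun _ => (1 : ℂ)) := by
        rw [Coherence.conjFun_indFun]; congr 1; funext k; simp [conjFun]
      funext x
      have h1 := congrFun hc0 x
      simp only [conjFun] at h1
      simp only [beta, conjFun, Pi.sub_apply, Pi.add_apply, map_sub, h1]
      ring
    have hlin : ∀ α α' : L → ℂ,
        dadeIsometry A L R (α + α') = dadeIsometry A L R α + dadeIsometry A L R α' := by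
      intro α α'; funext g
      simp only [dadeIsometry, Pi.add_apply]
      split_ifs <;> simp
    have hTc := conjFun_dade (A := A) (R := R) (beta K ζ)
    rw [hb, hlin, ← D.agree _ (D.conj_sub_mem hζ), Coherence.iso_map_sub D.iso
      (Coherence.zspan_subset hζ) (Coherence.zspan_subset hcz)
      (Coherence.zspan_neg (Coherence.zspan_subset hcz)), hT] at hTc
    have hs := D.sum_conj (a : ℂ) (map_intCast _ _)
    have hz := D.tau_conj hζ
    funext g
    have h := congrFun hTc g
    have h1 := congrFun hs g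
    have h2 := congrFun hz g
    simp only [conjFun] at h1 h2
    simp only [conjFun, Pi.add_apply, Pi.sub_apply, map_add, map_sub, map_one] at h ⊢
    rw [h1, h2] at h
    linear_combination h
  have hr := real D hζ hζ1 a Γ hT
  have hr' := real D' hζ' hζ1' a' Γ' hT'
  obtain ⟨m, hm⟩ := PF14.inner_even_of_real hodd hΓg hΓg' hr hr' hΓ1
  obtain ⟨b, hb⟩ := Coherence.inner_gen_int (D.tau_beta_gen hζ hζ1) (D'.gen hζ')
  obtain ⟨b', hb'⟩ := Coherence.inner_gen_int (D'.tau_beta_gen hζ' hζ1') (D.gen hζ)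
  change classInner _ (τ₁' ζ') = _ at hb
  change classInner _ (τ₁ ζ) = _ at hb'
  refine ⟨b, b', hb, hb', ?_⟩
  set T := dadeIsometry A L R (beta K ζ) with hTd
  set T' := dadeIsometry A' L' R' (beta K' ζ') with hTd'
  have hTT : classInner T T' = 0 := inner_eq_zero_of_disjoint D.dade D'.dade hdis _ _
  set Sig := ∑ ψ ∈ Coherence.seqFinset K ⊥, ((a : ℂ) * (ψ 1 / (K.index : ℂ))) • τ₁ ψ with hSig
  set Sig' := ∑ ψ ∈ Coherence.seqFinset K' ⊥,
    ((a' : ℂ) * (ψ 1 / (K'.index : ℂ))) • τ₁' ψ with hSig'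
  set one : G → ℂ := fun _ => 1 with hone
  have hone1 : classInner one one = 1 :=
    Coherence.irr_inner_self (χ := one) CharCore.isIrrCharacter_one
  have hdis' := hdis.symm
  have o : ∀ ψ ∈ inducedIrrAbove K (⊥ : Subgroup L), ∀ ψ' ∈ inducedIrrAbove K' (⊥ : Subgroup L'),
      classInner (τ₁ ψ) (τ₁' ψ') = 0 := fun ψ h ψ' h' => D.images_orth D' hdis h h'
  have u1 : ∀ ψ ∈ inducedIrrAbove K (⊥ : Subgroup L), classInner one (τ₁ ψ) = 0 :=
    fun ψ h => by rw [← Coherence.inner_conj_symm, D.inner_one h, map_zero]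
  have u1' : ∀ ψ ∈ inducedIrrAbove K' (⊥ : Subgroup L'), classInner one (τ₁' ψ) = 0 :=
    fun ψ h => by rw [← Coherence.inner_conj_symm, D'.inner_one h, map_zero]
  -- coefficients of `Γ'` on the first family
  have g' : ∀ ψ ∈ inducedIrrAbove K (⊥ : Subgroup L),
      classInner Γ' (τ₁ ψ) = ψ 1 / (K.index : ℂ) * b' := by
    intro ψ hψ
    have h := D'.coeff_other D hdis' hζ' hζ1' hζ hζ1 hψ
    rw [hb'] at h
    rw [← h]
    conv_rhs => rw [← hTd', hT']
    rw [Coherence.inner_add_left, Coherence.inner_add_left, Coherence.inner_sub_left, u1 ψ hψ,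
      D'.images_orth D hdis' hζ' hψ, hSig', Coherence.inner_sum_left,
      Finset.sum_eq_zero fun φ hφ => by
        rw [Coherence.inner_smul_left, D'.images_orth D hdis' (D'.mem_finset.1 hφ) hψ, mul_zero]]
    ring
  have g : ∀ ψ ∈ inducedIrrAbove K' (⊥ : Subgroup L'),
      classInner Γ (τ₁' ψ) = ψ 1 / (K'.index : ℂ) * b := by
    intro ψ hψ
    have h := D.coeff_other D' hdis hζ hζ1 hζ' hζ1' hψ
    rw [hb] at h
    rw [← h]
    conv_rhs => rw [← hTd, hT]
    rw [Coherence.inner_add_left, Coherence.inner_add_left, Coherence.inner_sub_left, u1' ψ hψ,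
      D.images_orth D' hdis hζ hψ, hSig, Coherence.inner_sum_left,
      Finset.sum_eq_zero fun φ hφ => by
        rw [Coherence.inner_smul_left, D.images_orth D' hdis (D.mem_finset.1 hφ) hψ, mul_zero]]
    ring
  obtain ⟨n, -, hn⟩ := D.exists_ratio
  obtain ⟨n', -, hn'⟩ := D'.exists_ratio
  have hsum : ∀ {A : Set G} {L : Subgroup G} [Fintype L] {R : G → Subgroup G} {K : Subgroup L}
      {τ₁ : (L → ℂ) → (G → ℂ)} (_ : KernelData A L R K τ₁) (n : ℕ),
      Nat.card K = n * K.index + 1 →
      ∑ ψ ∈ Coherence.seqFinset K ⊥, (ψ 1 / (K.index : ℂ)) * conj (ψ 1 / (K.index : ℂ)) = n := by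
    intro A L _ R K τ₁ D n hn
    have e2 : ∀ ψ ∈ Coherence.seqFinset K ⊥, (ψ 1 / (K.index : ℂ)) * conj (ψ 1 / (K.index : ℂ)) =
        ((((ψ 1).re ^ 2) / (K.index : ℝ) ^ 2 : ℝ) : ℂ) := by
      intro ψ hψ
      obtain ⟨d, hd, -⟩ := Coherence.char_one_nat
        (Coherence.irr_isCharacter (D.mem_irr (D.mem_finset.1 hψ)))
      rw [hd, map_div₀, Complex.conj_natCast, Complex.conj_natCast, Complex.natCast_re]
      push_cast
      ring
    rw [Finset.sum_congr rfl e2, ← Complex.ofReal_sum, ← Finset.sum_div, D.sum_sq, hn]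
    push_cast
    have : (K.index : ℂ) ≠ 0 := Nat.cast_ne_zero.2 Subgroup.index_ne_zero_of_finite
    field_simp
    ring
  have hSz : classInner (τ₁ ζ) Γ' = (b' : ℂ) := by
    rw [← Coherence.inner_conj_symm, g' ζ hζ, hζ1,
      div_self (Nat.cast_ne_zero.2 Subgroup.index_ne_zero_of_finite), one_mul, map_intCast]
  have hSz' : classInner Γ (τ₁' ζ') = (b : ℂ) := by
    rw [g ζ' hζ', hζ1', div_self (Nat.cast_ne_zero.2 Subgroup.index_ne_zero_of_finite), one_mul]
  have hS1 : classInner Sig Γ' = (a : ℂ) * n * b' := by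
    rw [hSig, Coherence.inner_sum_left, ← hsum D n hn, Finset.mul_sum, Finset.sum_mul]
    refine Finset.sum_congr rfl fun ψ hψ => ?_
    rw [Coherence.inner_smul_left, ← Coherence.inner_conj_symm Γ' (τ₁ ψ),
      g' ψ (D.mem_finset.1 hψ), map_mul, map_intCast]
    ring
  have hS2 : classInner Γ Sig' = (a' : ℂ) * n' * b := by
    rw [hSig', Coherence.inner_sum_right, ← hsum D' n' hn', Finset.mul_sum, Finset.sum_mul]
    refine Finset.sum_congr rfl fun ψ hψ => ?_
    rw [Coherence.inner_smul_right, g ψ (D'.mem_finset.1 hψ), map_mul, map_intCast]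
    ring
  have z1 : classInner one (τ₁' ζ') = 0 := u1' ζ' hζ'
  have z2 : classInner one Sig' = 0 := by
    rw [hSig', Coherence.inner_sum_right]
    exact Finset.sum_eq_zero fun φ hφ => by
      rw [Coherence.inner_smul_right, u1' φ (D'.mem_finset.1 hφ), mul_zero]
  have z3 : classInner one Γ' = 0 := by rw [← Coherence.inner_conj_symm, hΓ1', map_zero]
  have z4 : classInner (τ₁ ζ) one = 0 := D.inner_one hζ
  have z5 : classInner (τ₁ ζ) (τ₁' ζ') = 0 := o ζ hζ ζ' hζ'
  have z6 : classInner (τ₁ ζ) Sig' = 0 := by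
    rw [hSig', Coherence.inner_sum_right]
    exact Finset.sum_eq_zero fun φ hφ => by
      rw [Coherence.inner_smul_right, o ζ hζ φ (D'.mem_finset.1 hφ), mul_zero]
  have z7 : classInner Sig one = 0 := by
    rw [hSig, Coherence.inner_sum_left]
    exact Finset.sum_eq_zero fun φ hφ => by
      rw [Coherence.inner_smul_left]
      rw [show classInner (τ₁ φ) one = 0 from D.inner_one (D.mem_finset.1 hφ), mul_zero]
  have z8 : classInner Sig (τ₁' ζ') = 0 := by
    rw [hSig, Coherence.inner_sum_left]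
    exact Finset.sum_eq_zero fun φ hφ => by
      rw [Coherence.inner_smul_left, o φ (D.mem_finset.1 hφ) ζ' hζ', mul_zero]
  have z9 : classInner Sig Sig' = 0 := by
    rw [hSig, Coherence.inner_sum_left]
    refine Finset.sum_eq_zero fun φ hφ => ?_
    rw [Coherence.inner_smul_left, hSig', Coherence.inner_sum_right, Finset.sum_eq_zero, mul_zero]
    intro φ' hφ'
    rw [Coherence.inner_smul_right, o φ (D.mem_finset.1 hφ) φ' (D'.mem_finset.1 hφ'), mul_zero]
  rw [hT, hT'] at hTT
  simp only [Coherence.inner_add_left, Coherence.inner_add_right, Coherence.inner_sub_left,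
    Coherence.inner_sub_right, hone1, hΓ1, z1, z2, z3, z4, z5, z6, z7, z8, z9, hSz, hSz', hS1,
    hS2, hm] at hTT
  have hne : (1 : ℤ) + b' * ((a : ℤ) * n - 1) + b * ((a' : ℤ) * n' - 1) + 2 * m = 0 := by
    have : (((1 : ℤ) + b' * ((a : ℤ) * n - 1) + b * ((a' : ℤ) * n' - 1) + 2 * m : ℤ) : ℂ) =
        ((0 : ℤ) : ℂ) := by
      push_cast at hTT ⊢
      linear_combination hTT
    exact_mod_cast this
  have heven : ∀ {L : Subgroup G} {K : Subgroup L} {n : ℕ}, Nat.card K = n * K.index + 1 →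
      ∃ k : ℤ, (n : ℤ) = 2 * k := by
    intro L K n hn
    have hK : Odd (Nat.card K) := hodd.of_dvd_nat
      ((Subgroup.card_subgroup_dvd_card K).trans (Subgroup.card_subgroup_dvd_card L))
    have hi : Odd K.index := hodd.of_dvd_nat
      (K.index_dvd_card.trans (Subgroup.card_subgroup_dvd_card L))
    rw [hn] at hK
    rcases Nat.even_or_odd n with ⟨k, hk⟩ | hodd'
    · exact ⟨k, by rw [hk]; push_cast; ring⟩
    · exact absurd hK (Nat.not_odd_iff_even.2 ((hodd'.mul hi).add_one))
  obtain ⟨k, hk⟩ := heven hn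
  obtain ⟨k', hk'⟩ := heven hn'
  rw [hk, hk'] at hne
  exact ⟨b' * a * k + b * a' * k' + m, by linear_combination -hne⟩

end Two

end Cfsg.Agent.PF7
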