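import Cfsg.Agent.PF7.Count
import Cfsg.Agent.PF7.Pair

/-!
Peterfalvi (7.11): disjoint supports of coherent Frobenius kernels do not cover `G - 1`.
-/

set_option autoImplicit false

namespace Cfsg.Agent.PF7

open Cfsg
open scoped ComplexConjugate Classical

variable {G : Type*} [Group G] [Fintype G]

section Family

variable {ι : Type*} (A : ι → Set G) (L : ι → Subgroup G)
    [∀ i, Fintype (L i)] (R : ι → G → Subgroup G) (K : ∀ i, Subgroup (L i))
    (τ : ∀ i, (L i → ℂ) → (G → ℂ))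
variable (D : ∀ i, KernelData (A i) (L i) (R i) (K i) (τ i))
    (hdis : ∀ i j, i ≠ j →
      Disjoint (Coherence.dadeSupp (A i) (R i)) (Coherence.dadeSupp (A j) (R j)))
    (ζ : ∀ i, L i → ℂ) (hζ : ∀ i, ζ i ∈ inducedIrrAbove (K i) ⊥)
    (hζ1 : ∀ i, ζ i 1 = ((K i).index : ℂ))
include D hdis hζ hζ1

/-- The coefficients of `τ β` on all the other families together. -/
theorem KernelData.coeff_family_bound (i : ι) (B : Finset ι) (hB : i ∉ B) :
    ∑ j ∈ B, ‖classInner (dadeIsometry (A i) (L i) (R i) (beta (K i) (ζ i))) (τ j (ζ j))‖ ^ 2 *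
      (((Nat.card (K j) : ℝ) - 1) / (K j).index) ≤ ((K i).index : ℝ) - 1 := by
  obtain ⟨a, Γ, -, -, hT, -, -, -, hbound⟩ := (D i).beta_decomp (hζ i) (hζ1 i)
  set T := dadeIsometry (A i) (L i) (R i) (beta (K i) (ζ i)) with hTdef
  have hne : ∀ j ∈ B, i ≠ j := fun j hj e => hB (e ▸ hj)
  have hTval : ∀ j ∈ B, ∀ ψ' ∈ inducedIrrAbove (K j) (⊥ : Subgroup (L j)),
      classInner T (τ j ψ') = classInner Γ (τ j ψ') := by
    intro j hj ψ' hψ'
    have hone' : classInner (fun _ : G => (1 : ℂ)) (τ j ψ') = 0 := by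
      rw [← Coherence.inner_conj_symm, (D j).inner_one hψ', map_zero]
    conv_lhs => rw [hT]
    rw [Coherence.inner_add_left, Coherence.inner_add_left, Coherence.inner_sub_left, hone',
      (D i).images_orth (D j) (hdis i j (hne j hj)) (hζ i) hψ', Coherence.inner_sum_left,
      Finset.sum_eq_zero fun ψ hψ => by
        rw [Coherence.inner_smul_left, (D i).images_orth (D j) (hdis i j (hne j hj))
          ((D i).mem_finset.1 hψ) hψ', mul_zero]]
    ring
  choose b hb using fun j => Coherence.inner_gen_int ((D i).tau_beta_gen (hζ i) (hζ1 i))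
    ((D j).gen (hζ j))
  set s := B.sigma fun j => Coherence.seqFinset (K j) (⊥ : Subgroup (L j)) with hs
  have hval : ∀ x ∈ s, classInner Γ (τ x.1 x.2) =
      (((x.2 1).re / ((K x.1).index : ℝ) * (b x.1 : ℝ) : ℝ) : ℂ) := by
    rintro ⟨j, ψ'⟩ hx
    obtain ⟨hj, hψ⟩ := Finset.mem_sigma.1 hx
    have hm := (D j).mem_finset.1 hψ
    obtain ⟨d, hd, -⟩ := Coherence.char_one_nat (Coherence.irr_isCharacter ((D j).mem_irr hm))
    rw [← hTval j hj ψ' hm, hTdef,
      (D i).coeff_other (D j) (hdis i j (hne j hj)) (hζ i) (hζ1 i) (hζ j) (hζ1 j) hm, hb j, hd]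
    simp
  have hbes := Coherence.bessel s (fun x => τ x.1 x.2) (fun _ => (1 : ℝ))
    (fun x => (x.2 1).re / ((K x.1).index : ℝ) * (b x.1 : ℝ)) (ξ := Γ) (fun _ _ => one_ne_zero)
    (by
      rintro ⟨j, ψ⟩ hx
      have hm := (D j).mem_finset.1 (Finset.mem_sigma.1 hx).2
      rw [(D j).tau_inner hm hm, if_pos rfl, Complex.ofReal_one])
    (by
      rintro ⟨j, ψ⟩ hx ⟨k, φ⟩ hy hxy
      have hm := (D j).mem_finset.1 (Finset.mem_sigma.1 hx).2
      have hm' := (D k).mem_finset.1 (Finset.mem_sigma.1 hy).2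
      by_cases e : j = k
      · subst e
        rw [(D j).tau_inner hm hm', if_neg fun q => hxy (Sigma.ext rfl (heq_of_eq q))]
      · exact (D j).images_orth (D k) (hdis j k e) hm hm')
    hval
  have hsum : ∑ x ∈ s, ((x.2 1).re / ((K x.1).index : ℝ) * (b x.1 : ℝ)) ^ 2 / 1 =
      ∑ j ∈ B, (b j : ℝ) ^ 2 * (((Nat.card (K j) : ℝ) - 1) / (K j).index) := by
    rw [hs, Finset.sum_sigma]
    refine Finset.sum_congr rfl fun j _ => ?_
    have he' : ((K j).index : ℝ) ≠ 0 := Nat.cast_ne_zero.2 Subgroup.index_ne_zero_of_finite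
    have e2 : ∀ ψ' ∈ Coherence.seqFinset (K j) (⊥ : Subgroup (L j)),
        ((ψ' 1).re / ((K j).index : ℝ) * (b j : ℝ)) ^ 2 / 1 =
          (b j : ℝ) ^ 2 / ((K j).index : ℝ) ^ 2 * (ψ' 1).re ^ 2 := fun ψ' _ => by ring
    rw [Finset.sum_congr rfl e2, ← Finset.mul_sum, (D j).sum_sq]
    field_simp
  rw [hsum] at hbes
  have := Coherence.normSqFn_nonneg
    (Γ - ∑ x ∈ s, (((x.2 1).re / ((K x.1).index : ℝ) * (b x.1 : ℝ) / 1 : ℝ) : ℂ) • τ x.1 x.2)
  rw [Finset.sum_congr rfl (g := fun j => (b j : ℝ) ^ 2 *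
      (((Nat.card (K j) : ℝ) - 1) / (K j).index)) fun j _ => by
    rw [hTdef, hb j, Complex.norm_intCast, sq_abs]]
  linarith

omit hdis hζ1 in
theorem KernelData.one_le_sq_apply_one (i : ι) : 1 ≤ ‖τ i (ζ i) 1‖ ^ 2 := by
  obtain ⟨d, hd, hd0⟩ : ∃ d : ℤ, τ i (ζ i) 1 = d ∧ d ≠ 0 := by
    rcases (D i).signed (hζ i) with s | s
    · obtain ⟨d, hd, hd0⟩ := Coherence.char_one_nat (Coherence.irr_isCharacter s)
      refine ⟨d, by simpa using hd, fun h0 => Coherence.irr_one_ne_zero s ?_⟩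
      rw [hd]; exact_mod_cast h0
    · obtain ⟨d, hd, hd0⟩ := Coherence.char_one_nat (Coherence.irr_isCharacter s)
      refine ⟨-d, ?_, fun h0 => Coherence.irr_one_ne_zero s ?_⟩
      · rw [Pi.neg_apply, neg_eq_iff_eq_neg] at hd
        rw [hd]; simp
      · rw [hd]; exact_mod_cast neg_eq_zero.1 h0
  rw [hd, Complex.norm_intCast, sq_abs, one_le_sq_iff_one_le_abs]
  exact_mod_cast Int.one_le_abs hd0

omit hdis hζ hζ1 in
theorem KernelData.two_le_index (i : ι) : 2 ≤ (K i).index := by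
  have h0 : (K i).index ≠ 0 := Subgroup.index_ne_zero_of_finite
  have h1 : (K i).index ≠ 1 := fun h => (D i).ne_top (Subgroup.index_eq_one.1 h)
  omega

end Family

/-- The numbers in (7.11): `h = n e + 1`. -/
theorem cover_arith {e n : ℕ} (he : 2 ≤ e) (hn : 2 ≤ n) {X : ℝ}
    (hX2 : n = 2 → X ≤ ((e : ℝ) - 1) / (2 * e + 2)) (hX : X ≤ ((e : ℝ) - 1) / (2 * e + 1)) :
    (n : ℝ) / (n * e + 1) + (e : ℝ) / (n * e + 1) + X < 1 := by
  have hE : (2 : ℝ) ≤ (e : ℝ) := by exact_mod_cast he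
  rw [← add_div]
  by_cases h2 : n = 2
  · subst h2
    refine lt_of_le_of_lt (add_le_add le_rfl (hX2 rfl)) ?_
    push_cast
    rw [div_add_div _ _ (by nlinarith) (by nlinarith), div_lt_one (by positivity)]
    nlinarith
  · have h3 : (3 : ℝ) ≤ (n : ℝ) := by exact_mod_cast (show 3 ≤ n by omega)
    refine lt_of_le_of_lt (add_le_add le_rfl hX) ?_
    rw [div_add_div _ _ (by positivity) (by positivity), div_lt_one (by positivity)]
    nlinarith [mul_nonneg (sub_nonneg.2 h3) (show (0 : ℝ) ≤ e ^ 2 - e by nlinarith)]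

/-- (7.11). -/
theorem not_cover {ι : Type*} [Fintype ι] [Nonempty ι] (hodd : Odd (Nat.card G))
    (A : ι → Set G) (L : ι → Subgroup G) [∀ i, Fintype (L i)] (R : ι → G → Subgroup G)
    (K : ∀ i, Subgroup (L i)) (τ : ∀ i, (L i → ℂ) → (G → ℂ))
    (D : ∀ i, KernelData (A i) (L i) (R i) (K i) (τ i))
    (hdis : ∀ i j, i ≠ j →
      Disjoint (Coherence.dadeSupp (A i) (R i)) (Coherence.dadeSupp (A j) (R j)))
    (hcard : ∀ i j, i ≠ j → Nat.card (K i) ≠ Nat.card (K j))
    (hcov : ∀ g : G, g ≠ 1 → ∃ i, g ∈ Coherence.dadeSupp (A i) (R i)) : False := by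
  choose ζ hζ hζ1 using fun i => (D i).exists_min
  choose n hn2 hn using fun i => (D i).exists_ratio
  obtain ⟨i, -, hmin⟩ := Finset.exists_min_image Finset.univ (fun i => (K i).index)
    Finset.univ_nonempty
  have hrest : rest A R = {1} := Finset.eq_singleton_iff_unique_mem.2
    ⟨one_mem_rest fun j => (D j).dade, fun g hg => by_contra fun hg1 => by
      obtain ⟨j, hj⟩ := hcov g hg1
      simp only [rest, Finset.mem_filter] at hg
      exact hg.2 j hj⟩
  have hG0 : (0 : ℝ) < (Nat.card G : ℝ) := by exact_mod_cast Nat.card_pos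
  have hterm : ∀ j, ((Finset.univ.filter (· ∈ A j)).card : ℝ) / Nat.card (L j) =
      (n j : ℝ) / (n j * (K j).index + 1) := fun j => by
    have he : ((K j).index : ℝ) ≠ 0 := Nat.cast_ne_zero.2 Subgroup.index_ne_zero_of_finite
    rw [(D j).card_A, ← (K j).index_mul_card, hn j]
    push_cast
    field_simp
    ring
  have h1 := rest_add_sum A L R (fun j => (D j).dade) hdis
  rw [hrest, Finset.card_singleton, Nat.cast_one,
    ← Finset.add_sum_erase _ _ (Finset.mem_univ i)] at h1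
  simp only [hterm] at h1
  have h2 := KernelData.family_ineq A L R K τ D hdis ζ hζ hζ1 i
  rw [hrest, Finset.sum_singleton] at h2
  set c : ι → ℝ := fun j =>
    ‖classInner (dadeIsometry (A j) (L j) (R j) (beta (K j) (ζ j))) (τ i (ζ i))‖ ^ 2 with hc
  set c' : ι → ℝ := fun j =>
    ‖classInner (dadeIsometry (A i) (L i) (R i) (beta (K i) (ζ i))) (τ j (ζ j))‖ ^ 2 with hc'
  set B := (Finset.univ.erase i).filter fun j => c j = 0 with hB
  have hsq : ∀ b : ℤ, b ≠ 0 → (1 : ℝ) ≤ ‖(b : ℂ)‖ ^ 2 := fun b hb => by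
    rw [Complex.norm_intCast, sq_abs, one_le_sq_iff_one_le_abs]
    exact_mod_cast Int.one_le_abs hb
  have hpar : ∀ j ∈ Finset.univ.erase i, (c j = 0 ∧ 1 ≤ c' j) ∨ 1 ≤ c j := by
    intro j hj
    obtain ⟨b, b', hb, hb', hodd'⟩ := (D j).coeff_parity (D i) (hdis j i (Finset.ne_of_mem_erase hj))
      hodd (hζ j) (hζ1 j) (hζ i) (hζ1 i)
    by_cases hb0 : b = 0
    · refine Or.inl ⟨by simp [hc, hb, hb0], ?_⟩
      have : b' ≠ 0 := by
        rintro rfl
        rw [hb0] at hodd'
        exact absurd hodd' (by decide)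
      simpa only [hc', hb'] using hsq b' this
    · exact Or.inr (by simpa only [hc, hb] using hsq b hb0)
  -- the members outside `B` are small by (7.10)
  have h4 : ∑ j ∈ (Finset.univ.erase i).filter (fun j => ¬ c j = 0),
      (n j : ℝ) / (n j * (K j).index + 1) ≤
      ∑ j ∈ Finset.univ.erase i, c j * ((Nat.card (K j) : ℝ) - 1) / Nat.card (L j) := by
    refine le_trans (Finset.sum_le_sum fun j hj => ?_)
      (Finset.sum_le_sum_of_subset_of_nonneg (Finset.filter_subset _ _) fun j _ _ => ?_)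
    · obtain ⟨hj, hj0⟩ := Finset.mem_filter.1 hj
      have h1c : 1 ≤ c j := (hpar j hj).resolve_left fun h => hj0 h.1
      rw [← hterm j, (D j).card_A, mul_div_assoc]
      refine le_mul_of_one_le_left (div_nonneg ?_ (Nat.cast_nonneg _)) h1c
      have : (1 : ℝ) ≤ (Nat.card (K j) : ℝ) := by
        exact_mod_cast Nat.succ_le_of_lt (Nat.card_pos (α := K j))
      linarith
    · refine div_nonneg (mul_nonneg (by positivity) ?_) (Nat.cast_nonneg _)
      have : (1 : ℝ) ≤ (Nat.card (K j) : ℝ) := by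
        exact_mod_cast Nat.succ_le_of_lt (Nat.card_pos (α := K j))
      linarith
  rw [← Finset.sum_filter_add_sum_filter_not (Finset.univ.erase i) (fun j => c j = 0)
    (fun j => (n j : ℝ) / (n j * (K j).index + 1)), ← hB] at h1
  -- the members of `B` are few by (7.9)
  have hbound : ∑ j ∈ B, (n j : ℝ) ≤ ((K i).index : ℝ) - 1 := by
    refine le_trans (Finset.sum_le_sum fun j hj => ?_)
      (KernelData.coeff_family_bound A L R K τ D hdis ζ hζ hζ1 i B
        fun h => Finset.ne_of_mem_erase (Finset.mem_filter.1 h).1 rfl)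
    obtain ⟨hj, hj0⟩ := Finset.mem_filter.1 hj
    have h1c : 1 ≤ c' j := ((hpar j hj).resolve_right fun h => by linarith).2
    have he : ((K j).index : ℝ) ≠ 0 := Nat.cast_ne_zero.2 Subgroup.index_ne_zero_of_finite
    rw [hn j, Nat.cast_add, Nat.cast_one, add_sub_cancel_right, Nat.cast_mul,
      mul_div_cancel_right₀ _ he]
    exact le_mul_of_one_le_left (Nat.cast_nonneg _) h1c
  have he2 := KernelData.two_le_index A L R K τ D i
  have hXd : ∀ d : ℕ, 0 < d → (∀ j ∈ B, d ≤ n j * (K j).index + 1) →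
      ∑ j ∈ B, (n j : ℝ) / (n j * (K j).index + 1) ≤ (((K i).index : ℝ) - 1) / d := by
    intro d hd hle
    refine le_trans (Finset.sum_le_sum fun j hj => ?_)
      ((Finset.sum_div _ _ _).ge.trans (div_le_div_of_nonneg_right hbound (Nat.cast_nonneg d)))
    exact div_le_div_of_nonneg_left (Nat.cast_nonneg _) (by exact_mod_cast hd)
      (by exact_mod_cast hle j hj)
  have hlow : ∀ j, 2 * (K i).index + 1 ≤ n j * (K j).index + 1 := fun j =>
    Nat.add_le_add_right (Nat.mul_le_mul (hn2 j) (hmin j (Finset.mem_univ j))) 1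
  have key := cover_arith he2 (hn2 i) (X := ∑ j ∈ B, (n j : ℝ) / (n j * (K j).index + 1))
    (fun h2 => by
      have := hXd (2 * (K i).index + 2) (by omega) fun j hj => by
        refine Nat.lt_of_le_of_ne (hlow j) fun e => hcard i j
          (Finset.ne_of_mem_erase (Finset.mem_filter.1 hj).1).symm ?_
        rw [hn i, hn j, h2, ← e]
      push_cast at this
      exact this)
    (by
      have := hXd (2 * (K i).index + 1) (by omega) fun j _ => hlow j
      push_cast at this
      exact this)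
  have hz : (1 : ℝ) / Nat.card G ≤ (Nat.card G : ℝ)⁻¹ * ‖τ i (ζ i) 1‖ ^ 2 := by
    rw [one_div]
    exact le_mul_of_one_le_right (by positivity)
      (KernelData.one_le_sq_apply_one A L R K τ D ζ hζ i)
  have hi : ((K i).index : ℝ) / Nat.card (K i) =
      ((K i).index : ℝ) / ((n i : ℝ) * (K i).index + 1) := by
    rw [hn i]; push_cast; rfl
  rw [hi] at h2
  simp only [hc] at h4
  linarith

end Cfsg.Agent.PF7
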