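import Cfsg.Agent.PF7.Kernel
import Cfsg.Agent.S1509

/-!
Peterfalvi (7.7)-(7.9): the values of `ρ` on the kernel, and two families with disjoint supports.
-/

set_option autoImplicit false

namespace Cfsg.Agent.PF7

open Cfsg
open scoped ComplexConjugate Classical

variable {G : Type*} [Group G] [Fintype G]
variable {A : Set G} {L : Subgroup G} [Fintype L] {R : G → Subgroup G} {K : Subgroup L}
variable {τ₁ : (L → ℂ) → (G → ℂ)}

section One

variable (D : KernelData A L R K τ₁)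

include D

theorem KernelData.mem_finset {ψ : L → ℂ} :
    ψ ∈ Coherence.seqFinset K ⊥ ↔ ψ ∈ inducedIrrAbove K (⊥ : Subgroup L) := by
  rw [← Finset.mem_coe, Coherence.coe_seqFinset]

variable {ζ : L → ℂ} (hζ : ζ ∈ inducedIrrAbove K ⊥) (hζ1 : ζ 1 = (K.index : ℂ))

include hζ hζ1

/-- (7.7): the values of `ρ φ` on `K#`. -/
theorem KernelData.rho_eq {φ : G → ℂ} (hφ : IsClassFunction G φ) {x : L} (hx : x ∈ K) (hx1 : x ≠ 1) :
    rho A L R φ x = (∑ ψ ∈ Coherence.seqFinset K ⊥, classInner φ (τ₁ ψ) * ψ x) +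
      (classInner φ (dadeIsometry A L R (beta K ζ)) + classInner φ (τ₁ ζ)) := by
  have := D.normal
  set S := Coherence.seqFinset K (⊥ : Subgroup L) with hS
  set P : L → ℂ := ∑ ψ ∈ S, classInner φ (τ₁ ψ) • ψ with hP
  set g : L → ℂ := rho A L R φ - P with hg
  have hgcl : IsClassFunction L g := by
    intro a b
    simp only [hg, hP, Pi.sub_apply, Finset.sum_apply, Pi.smul_apply,
      isClassFunction_rho D.dade hφ a b]
    refine congrArg _ (Finset.sum_congr rfl fun ψ hψ => ?_)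
    rw [PFTypeOne.gen_isClassFunction (Coherence.irr_gen (D.mem_irr (D.mem_finset.1 hψ))) a b]
  have horth : ∀ α ∈ zspanOn (inducedIrrAbove K (⊥ : Subgroup L)) ({1}ᶜ : Set L),
      classInner g α = 0 := by
    intro α hα
    have hα' : α ∈ zspan (↑S : Set (L → ℂ)) := by rw [hS, Coherence.coe_seqFinset]; exact hα.1
    obtain ⟨m, hm⟩ := Coherence.mem_zspan_finset.1 hα'
    have hαe : α = ∑ ψ ∈ S, m ψ • ψ := by rw [← hm]
    have hτ : τ₁ α = ∑ ψ ∈ S, m ψ • τ₁ ψ := by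
      rw [hαe]
      exact Coherence.iso_zspan_sum D.iso S m (fun ψ => ψ)
        (fun ψ hψ => Coherence.zspan_subset (D.mem_finset.1 hψ))
    rw [hg, Coherence.inner_sub_left,
      ← inner_dade_right D.dade (D.zspanOn_supp hα).1 (D.zspanOn_supp hα).2 hφ, ← D.agree α hα, hτ,
      hP, Coherence.inner_sum_left, Coherence.inner_sum_right, sub_eq_zero]
    refine Finset.sum_congr rfl fun ψ hψ => ?_
    rw [Coherence.inner_zsmul_right, Coherence.inner_smul_left, hαe, Coherence.inner_sum_right,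
      Finset.sum_eq_single ψ]
    · rw [Coherence.inner_zsmul_right, Coherence.irr_inner_self (D.mem_irr (D.mem_finset.1 hψ))]
      ring
    · intro φ' hφ' hne
      rw [Coherence.inner_zsmul_right, Coherence.irr_inner_ne (D.mem_irr (D.mem_finset.1 hψ))
        (D.mem_irr (D.mem_finset.1 hφ')) (Ne.symm hne), mul_zero]
    · exact fun h => absurd hψ h
  have hconst : ∀ y : L, (y : G) ∈ A → g y = g x := fun y hy =>
    Coherence.orth_constant K D.centK hgcl horth ((D.setA y).1 hy).1 ((D.setA y).1 hy).2 hx hx1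
  have hval : classInner g (beta K ζ) = g x := by
    have e : classInner g (beta K ζ) = g x * classInner (fun _ => (1 : ℂ)) (beta K ζ) := by
      rw [CharCore.classInner_def, CharCore.classInner_def, mul_left_comm, Finset.mul_sum _ _ (g x)]
      refine congrArg _ (Finset.sum_congr rfl fun y _ => ?_)
      by_cases hy : (y : G) ∈ A
      · rw [hconst y hy, one_mul]
      · rw [D.beta_supp hζ hζ1 hy, map_zero, mul_zero, mul_zero, mul_zero]
    rw [e, ← Coherence.inner_conj_symm, D.beta_inner_one hζ hζ1, map_one, mul_one]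
  have hPb : classInner P (beta K ζ) = -classInner φ (τ₁ ζ) := by
    rw [hP, Coherence.inner_sum_left, Finset.sum_eq_single ζ]
    · rw [Coherence.inner_smul_left, ← Coherence.inner_conj_symm (beta K ζ) ζ,
        D.beta_inner hζ hζ1 hζ, if_pos rfl, map_neg, map_one, mul_neg_one]
    · intro ψ hψ hne
      rw [Coherence.inner_smul_left, ← Coherence.inner_conj_symm (beta K ζ) ψ,
        D.beta_inner hζ hζ1 (D.mem_finset.1 hψ), if_neg hne, map_zero, mul_zero]
    · exact fun h => absurd (D.mem_finset.2 hζ) h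
  have hgb : classInner g (beta K ζ) =
      classInner φ (dadeIsometry A L R (beta K ζ)) + classInner φ (τ₁ ζ) := by
    rw [hg, Coherence.inner_sub_left, hPb,
      ← inner_dade_right D.dade (D.beta_class hζ hζ1) (fun _ h => D.beta_supp hζ hζ1 h) hφ,
      sub_neg_eq_add]
  rw [← hgb, hval, hg, Pi.sub_apply, hP, Finset.sum_apply]
  simp

/-- For `φ` orthogonal to the family, `ρ φ` is the constant `⟨φ, τ β⟩` on `K#`. -/
theorem KernelData.rho_orth {φ : G → ℂ} (hφ : IsClassFunction G φ)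
    (horth : ∀ ψ ∈ inducedIrrAbove K (⊥ : Subgroup L), classInner φ (τ₁ ψ) = 0)
    {x : L} (hx : x ∈ K) (hx1 : x ≠ 1) :
    rho A L R φ x = classInner φ (dadeIsometry A L R (beta K ζ)) := by
  rw [D.rho_eq hζ hζ1 hφ hx hx1, horth ζ hζ, Finset.sum_eq_zero fun ψ hψ => by
    rw [horth ψ (D.mem_finset.1 hψ), zero_mul]]
  ring

theorem KernelData.rho_norm_orth {φ : G → ℂ} (hφ : IsClassFunction G φ)
    (horth : ∀ ψ ∈ inducedIrrAbove K (⊥ : Subgroup L), classInner φ (τ₁ ψ) = 0) :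
    Coherence.normSqFn (rho A L R φ) =
      ‖classInner φ (dadeIsometry A L R (beta K ζ))‖ ^ 2 * ((Nat.card K : ℝ) - 1) / Nat.card L := by
  haveI : Fintype K := Fintype.ofFinite _
  set c := classInner φ (dadeIsometry A L R (beta K ζ))
  rw [Coherence.normSqFn, ← Finset.sum_filter_add_sum_filter_not _ (fun x : L => x ∈ K ∧ x ≠ 1),
    Finset.sum_eq_zero (s := Finset.univ.filter fun x : L => ¬(x ∈ K ∧ x ≠ 1)) fun x hx => ?_,
    add_zero, Finset.sum_congr rfl (g := fun _ => ‖c‖ ^ 2) fun x hx => ?_, Finset.sum_const,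
    nsmul_eq_mul]
  · have hcard : ((Finset.univ.filter fun x : L => x ∈ K ∧ x ≠ 1).card : ℝ) =
        (Nat.card K : ℝ) - 1 := by
      have : (Finset.univ.filter fun x : L => x ∈ K ∧ x ≠ 1) =
          ((Finset.univ : Finset L).filter fun x => x ∈ K).erase 1 := by
        ext x; simp [and_comm]
      rw [this, Finset.card_erase_of_mem (by simp [K.one_mem]),
        show ((Finset.univ : Finset L).filter fun x => x ∈ K).card = Nat.card K by
          rw [Nat.card_eq_fintype_card, ← Fintype.card_subtype],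
        Nat.cast_sub Nat.card_pos, Nat.cast_one]
    rw [hcard]
    ring
  · obtain ⟨h1, h2⟩ := (Finset.mem_filter.1 hx).2
    rw [D.rho_orth hζ hζ1 hφ horth h1 h2]
  · have h := (Finset.mem_filter.1 hx).2
    rw [rho_of_notMem fun hA => h ((D.setA x).1 hA)]
    simp

/-- The values of `ρ (τ₁ ζ)` on `K#`. -/
theorem KernelData.rho_self :
    ∃ a : ℤ, (∀ ψ ∈ inducedIrrAbove K (⊥ : Subgroup L),
        classInner (dadeIsometry A L R (beta K ζ)) (τ₁ ψ) =
          ψ 1 / (K.index : ℂ) * a - if ψ = ζ then 1 else 0) ∧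
      ∀ x : L, x ∈ K → x ≠ 1 → rho A L R (τ₁ ζ) x = ζ x + a := by
  obtain ⟨a, ha⟩ := D.beta_coeff hζ hζ1
  refine ⟨a, ha, fun x hx hx1 => ?_⟩
  have he : (K.index : ℂ) ≠ 0 := Nat.cast_ne_zero.2 Subgroup.index_ne_zero_of_finite
  have hc : classInner (τ₁ ζ) (dadeIsometry A L R (beta K ζ)) = (a : ℂ) - 1 := by
    rw [← Coherence.inner_conj_symm, ha ζ hζ, if_pos rfl, hζ1, div_self he]
    simp
  rw [D.rho_eq hζ hζ1 (PFTypeOne.gen_isClassFunction (D.gen hζ)) hx hx1, hc, D.tau_inner hζ hζ,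
    if_pos rfl, Finset.sum_eq_single ζ]
  · rw [D.tau_inner hζ hζ, if_pos rfl]; ring
  · intro ψ hψ hne
    rw [D.tau_inner hζ (D.mem_finset.1 hψ), if_neg (Ne.symm hne), zero_mul]
  · exact fun h => absurd (D.mem_finset.2 hζ) h

/-- (7.8)(c): `‖ρ (τ₁ ζ)‖² ≥ 1 - e / h`. -/
theorem KernelData.rho_norm_self :
    1 - (K.index : ℝ) / Nat.card K ≤ Coherence.normSqFn (rho A L R (τ₁ ζ)) := by
  haveI : Fintype K := Fintype.ofFinite _
  obtain ⟨a, -, hrho⟩ := D.rho_self hζ hζ1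
  obtain ⟨n, hn2, hn⟩ := D.exists_ratio
  set f := rho A L R (τ₁ ζ) with hf
  have hirr := D.mem_irr hζ
  have hsq : ∀ x : L, ‖f x‖ ^ 2 = if x ∈ K ∧ x ≠ 1 then
      ‖ζ x‖ ^ 2 + 2 * (a : ℝ) * (ζ x).re + (a : ℝ) ^ 2 else 0 := by
    intro x
    split_ifs with h
    · rw [hrho x h.1 h.2, ← Complex.normSq_eq_norm_sq, ← Complex.normSq_eq_norm_sq]
      simp [Complex.normSq_apply]
      ring
    · rw [hf, rho_of_notMem fun hA => h ((D.setA x).1 hA)]
      simp
  have hz : ∀ x : L, (if x ∈ K ∧ x ≠ 1 then ‖ζ x‖ ^ 2 + 2 * (a : ℝ) * (ζ x).re + (a : ℝ) ^ 2 else 0)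
      = ‖ζ x‖ ^ 2 + 2 * (a : ℝ) * (ζ x).re + (if x ∈ K then (a : ℝ) ^ 2 else 0)
        - (if x = 1 then (K.index : ℝ) ^ 2 + 2 * (a : ℝ) * K.index + (a : ℝ) ^ 2 else 0) := by
    intro x
    by_cases hx : x ∈ K
    · by_cases hx1 : x = 1
      · subst hx1; simp [hζ1]
      · simp [hx, hx1]
    · have hx1 : x ≠ 1 := fun e => hx (e ▸ K.one_mem)
      simp [hx, hx1, D.mem_off hζ hx]
  have hL : (Nat.card L : ℝ) ≠ 0 := Nat.cast_ne_zero.2 Nat.card_pos.ne'
  have s1 : ∑ x : L, ‖ζ x‖ ^ 2 = (Nat.card L : ℝ) := by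
    have h := Coherence.irr_inner_self hirr
    rw [Coherence.inner_self, Complex.ofReal_eq_one, Coherence.normSqFn,
      inv_mul_eq_iff_eq_mul₀ hL, mul_one] at h
    exact h
  have s2 : ∑ x : L, (ζ x).re = 0 := by
    have h := D.member_inner_one hζ
    rw [CharCore.classInner_def, mul_eq_zero] at h
    have h' := congrArg Complex.re (h.resolve_left (inv_ne_zero (Nat.cast_ne_zero.2 Nat.card_pos.ne')))
    simpa using h'
  have s3 : ∑ x : L, (if x ∈ K then (a : ℝ) ^ 2 else 0) = (Nat.card K : ℝ) * (a : ℝ) ^ 2 := by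
    rw [← Finset.sum_filter, Finset.sum_const, nsmul_eq_mul, Nat.card_eq_fintype_card,
      ← Fintype.card_subtype]
  have htot : ∑ x : L, ‖f x‖ ^ 2 = (Nat.card L : ℝ) + (Nat.card K : ℝ) * (a : ℝ) ^ 2 -
      ((K.index : ℝ) ^ 2 + 2 * (a : ℝ) * K.index + (a : ℝ) ^ 2) := by
    rw [Finset.sum_congr rfl fun x _ => (hsq x).trans (hz x), Finset.sum_sub_distrib,
      Finset.sum_add_distrib, Finset.sum_add_distrib, ← Finset.mul_sum, s1, s2, s3,
      Finset.sum_ite_eq' Finset.univ (1 : L), if_pos (Finset.mem_univ _)]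
    ring
  have hcard : (Nat.card L : ℝ) = (K.index : ℝ) * Nat.card K := by
    rw [← K.index_mul_card, Nat.cast_mul]
  have hk : (0 : ℝ) < Nat.card K := Nat.cast_pos.2 Nat.card_pos
  have hi : (0 : ℝ) < K.index := Nat.cast_pos.2 (Nat.pos_of_ne_zero Subgroup.index_ne_zero_of_finite)
  have hkey : 2 * (a : ℝ) ≤ (a : ℝ) ^ 2 * (n : ℝ) := by
    have h2 : (2 : ℤ) ≤ n := by exact_mod_cast hn2
    have : 2 * a ≤ a ^ 2 * (n : ℤ) := by
      rcases le_or_gt a 0 with h | h
      · nlinarith [mul_nonneg (sq_nonneg a) (by omega : (0 : ℤ) ≤ n)]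
      · nlinarith [mul_le_mul_of_nonneg_left h2 (sq_nonneg a)]
    exact_mod_cast this
  have hn' : (Nat.card K : ℝ) = (n : ℝ) * K.index + 1 := by exact_mod_cast hn
  have h0 : 0 ≤ (K.index : ℝ) * ((a : ℝ) ^ 2 * n - 2 * a) := mul_nonneg hi.le (by linarith)
  rw [Coherence.normSqFn, htot, one_sub_div hk.ne', inv_mul_eq_div, hcard,
    div_le_div_iff₀ hk (mul_pos hi hk)]
  have hexp : (K.index : ℝ) * Nat.card K + (Nat.card K : ℝ) * (a : ℝ) ^ 2 -
      ((K.index : ℝ) ^ 2 + 2 * (a : ℝ) * K.index + (a : ℝ) ^ 2) =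
      ((Nat.card K : ℝ) - K.index) * K.index + (K.index : ℝ) * ((a : ℝ) ^ 2 * n - 2 * a) := by
    rw [hn']; ring
  rw [hexp]
  nlinarith [mul_nonneg h0 hk.le]

end One

section Two

variable {A' : Set G} {L' : Subgroup G} [Fintype L'] {R' : G → Subgroup G} {K' : Subgroup L'}
variable {τ₁' : (L' → ℂ) → (G → ℂ)}
variable (D : KernelData A L R K τ₁) (D' : KernelData A' L' R' K' τ₁')
variable (hdis : Disjoint (Coherence.dadeSupp A R) (Coherence.dadeSupp A' R'))

include D D' hdis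

/-- (7.9)(a): families with disjoint supports are orthogonal. -/
theorem KernelData.images_orth {ψ : L → ℂ} (hψ : ψ ∈ inducedIrrAbove K ⊥) {ψ' : L' → ℂ}
    (hψ' : ψ' ∈ inducedIrrAbove K' ⊥) : classInner (τ₁ ψ) (τ₁' ψ') = 0 := by
  have hc := Coherence.seq_conj K hψ
  have hc' := Coherence.seq_conj K' hψ'
  have e1 : τ₁ ψ - τ₁ (conjFun ψ) = dadeIsometry A L R (ψ - conjFun ψ) := by
    rw [← D.agree _ (D.conj_sub_mem hψ), Coherence.iso_map_sub D.iso (Coherence.zspan_subset hψ)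
      (Coherence.zspan_subset hc) (Coherence.zspan_neg (Coherence.zspan_subset hc))]
  have e2 : τ₁' ψ' - τ₁' (conjFun ψ') = dadeIsometry A' L' R' (ψ' - conjFun ψ') := by
    rw [← D'.agree _ (D'.conj_sub_mem hψ'), Coherence.iso_map_sub D'.iso
      (Coherence.zspan_subset hψ') (Coherence.zspan_subset hc')
      (Coherence.zspan_neg (Coherence.zspan_subset hc'))]
  have d1 : τ₁ ψ 1 = τ₁ (conjFun ψ) 1 := by
    rw [← sub_eq_zero, ← Pi.sub_apply, e1]
    exact PFTypeOne.dade_apply_one D.dade _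
  have d2 : τ₁' ψ' 1 = τ₁' (conjFun ψ') 1 := by
    rw [← sub_eq_zero, ← Pi.sub_apply, e2]
    exact PFTypeOne.dade_apply_one D'.dade _
  have o1 := D.tau_inner hψ hc
  have o2 := D'.tau_inner hψ' hc'
  rw [if_neg fun e => D.conj_ne hψ e.symm] at o1
  rw [if_neg fun e => D'.conj_ne hψ' e.symm] at o2
  refine (S1509.result _ _ _ _ (D.signed hψ) (D.signed hc) (D'.signed hψ') (D'.signed hc') 1 1
    one_ne_zero one_ne_zero o1 o2 ?_ d1 (by rw [d2])).1
  rw [Complex.ofReal_one, one_smul, one_smul, e1, e2]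
  exact inner_eq_zero_of_disjoint D.dade D'.dade hdis _ _

variable {ζ : L → ℂ} (hζ : ζ ∈ inducedIrrAbove K ⊥) (hζ1 : ζ 1 = (K.index : ℂ))
variable {ζ' : L' → ℂ} (hζ' : ζ' ∈ inducedIrrAbove K' ⊥) (hζ1' : ζ' 1 = (K'.index : ℂ))

include hζ hζ1 hζ' hζ1'

/-- The coefficients of `τ β` on the images of the other family are proportional to the degrees. -/
theorem KernelData.coeff_other {ψ' : L' → ℂ} (hψ' : ψ' ∈ inducedIrrAbove K' ⊥) :
    classInner (dadeIsometry A L R (beta K ζ)) (τ₁' ψ') =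
      ψ' 1 / (K'.index : ℂ) * classInner (dadeIsometry A L R (beta K ζ)) (τ₁' ζ') := by
  have he : (K'.index : ℂ) ≠ 0 := Nat.cast_ne_zero.2 Subgroup.index_ne_zero_of_finite
  obtain ⟨d, hd, -⟩ := Coherence.char_one_nat (Coherence.irr_isCharacter (D'.mem_irr hψ'))
  have z1 : (K'.index : ℤ) • ψ' ∈ zspan (inducedIrrAbove K' (⊥ : Subgroup L')) :=
    Coherence.zspan_zsmul _ (Coherence.zspan_subset hψ')
  have z2 : (d : ℤ) • ζ' ∈ zspan (inducedIrrAbove K' (⊥ : Subgroup L')) :=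
    Coherence.zspan_zsmul _ (Coherence.zspan_subset hζ')
  have hm : (K'.index : ℤ) • ψ' - (d : ℤ) • ζ' ∈
      zspanOn (inducedIrrAbove K' (⊥ : Subgroup L')) ({1}ᶜ : Set L') :=
    Coherence.mem_zspanOn_one.2 ⟨Coherence.zspan_sub z1 z2, by simp [hd, hζ1']; ring⟩
  have h := inner_eq_zero_of_disjoint D.dade D'.dade hdis (beta K ζ)
    ((K'.index : ℤ) • ψ' - (d : ℤ) • ζ')
  rw [← D'.agree _ hm, Coherence.iso_map_sub D'.iso z1 z2 (Coherence.zspan_neg z2),
    D'.iso.2.1 _ (Coherence.zspan_subset hψ'), D'.iso.2.1 _ (Coherence.zspan_subset hζ'),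
    Coherence.inner_sub_right, Coherence.inner_zsmul_right, Coherence.inner_zsmul_right] at h
  rw [hd, div_mul_eq_mul_div, eq_div_iff he]
  push_cast at h
  linear_combination h

/-- (7.9)(b): the square of that coefficient is small. -/
theorem KernelData.coeff_other_bound :
    ‖classInner (dadeIsometry A L R (beta K ζ)) (τ₁' ζ')‖ ^ 2 *
      (((Nat.card K' : ℝ) - 1) / K'.index) ≤ (K.index : ℝ) - 1 := by
  obtain ⟨a, Γ, hΓgen, -, hT, -, -, -, hbound⟩ := D.beta_decomp hζ hζ1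
  set T := dadeIsometry A L R (beta K ζ) with hTdef
  have hTval : ∀ ψ' ∈ inducedIrrAbove K' (⊥ : Subgroup L'),
      classInner T (τ₁' ψ') = classInner Γ (τ₁' ψ') := by
    intro ψ' hψ'
    have hone' : classInner (fun _ : G => (1 : ℂ)) (τ₁' ψ') = 0 := by
      rw [← Coherence.inner_conj_symm, D'.inner_one hψ', map_zero]
    conv_lhs => rw [hT]
    rw [Coherence.inner_add_left, Coherence.inner_add_left, Coherence.inner_sub_left, hone',
      D.images_orth D' hdis hζ hψ', Coherence.inner_sum_left,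
      Finset.sum_eq_zero fun ψ hψ => by
        rw [Coherence.inner_smul_left, D.images_orth D' hdis (D.mem_finset.1 hψ) hψ', mul_zero]]
    ring
  obtain ⟨b, hb⟩ := Coherence.inner_gen_int (D.tau_beta_gen hζ hζ1) (D'.gen hζ')
  change classInner T (τ₁' ζ') = _ at hb
  set S' := Coherence.seqFinset K' (⊥ : Subgroup L')
  have hval : ∀ ψ' ∈ S', classInner Γ (τ₁' ψ') =
      (((ψ' 1).re / (K'.index : ℝ) * (b : ℝ) : ℝ) : ℂ) := by
    intro ψ' hψ'
    have hm := D'.mem_finset.1 hψ'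
    obtain ⟨d, hd, -⟩ := Coherence.char_one_nat (Coherence.irr_isCharacter (D'.mem_irr hm))
    rw [← hTval ψ' hm, D.coeff_other D' hdis hζ hζ1 hζ' hζ1' hm, hb, hd]
    simp
  have hbes := Coherence.bessel S' (fun ψ' => τ₁' ψ') (fun _ => (1 : ℝ))
    (fun ψ' => (ψ' 1).re / (K'.index : ℝ) * (b : ℝ)) (ξ := Γ) (fun _ _ => one_ne_zero)
    (fun ψ' hψ' => by
      rw [D'.tau_inner (D'.mem_finset.1 hψ') (D'.mem_finset.1 hψ'), if_pos rfl, Complex.ofReal_one])
    (fun ψ' hψ' φ' hφ' hne => by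
      rw [D'.tau_inner (D'.mem_finset.1 hψ') (D'.mem_finset.1 hφ'), if_neg hne])
    hval
  have hsum : ∑ ψ' ∈ S', ((ψ' 1).re / (K'.index : ℝ) * (b : ℝ)) ^ 2 / 1 =
      (b : ℝ) ^ 2 * (((Nat.card K' : ℝ) - 1) / K'.index) := by
    have he' : (K'.index : ℝ) ≠ 0 := Nat.cast_ne_zero.2 Subgroup.index_ne_zero_of_finite
    have e2 : ∀ ψ' ∈ S', ((ψ' 1).re / (K'.index : ℝ) * (b : ℝ)) ^ 2 / 1 =
        (b : ℝ) ^ 2 / (K'.index : ℝ) ^ 2 * (ψ' 1).re ^ 2 := fun ψ' _ => by ring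
    rw [Finset.sum_congr rfl e2, ← Finset.mul_sum, D'.sum_sq]
    field_simp
  rw [hsum] at hbes
  have := Coherence.normSqFn_nonneg
    (Γ - ∑ i ∈ S', (((i 1).re / (K'.index : ℝ) * (b : ℝ) / 1 : ℝ) : ℂ) • τ₁' i)
  rw [hb, Complex.norm_intCast, sq_abs]
  linarith

end Two

end Cfsg.Agent.PF7
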