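import Cfsg.Agent.PF7.Adjoint
import Cfsg.Agent.Coherence.Partition
import Cfsg.Agent.PFTypeOne.Coherent

/-!
Peterfalvi (7.6)-(7.8): a coherent family on a Frobenius kernel carrying a Dade map.
-/

set_option autoImplicit false

namespace Cfsg.Agent.PF7

open Cfsg
open scoped ComplexConjugate Classical

variable {G : Type*} [Group G] [Fintype G]

/-- A Frobenius kernel `K` of `L`, Dade data on `K#`, and a coherent extension `τ₁`. -/
structure KernelData (A : Set G) (L : Subgroup G) [Fintype L] (R : G → Subgroup G) (K : Subgroup L)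
    (τ₁ : (L → ℂ) → (G → ℂ)) : Prop where
  normal : K.Normal
  ne_bot : K ≠ ⊥
  ne_top : K ≠ ⊤
  odd : Odd (Nat.card L)
  centK : ∀ n ∈ K, n ≠ 1 → Subgroup.centralizer ({n} : Set L) ≤ K
  dade : DadeHypothesis A L R
  setA : ∀ x : L, (x : G) ∈ A ↔ x ∈ K ∧ x ≠ 1
  iso : IsLinearIsometryOn (zspan (inducedIrrAbove K ⊥)) τ₁
  agree : ∀ α ∈ zspanOn (inducedIrrAbove K ⊥) {1}ᶜ, τ₁ α = dadeIsometry A L R α

/-- `β = Ind_K^L 1 - ζ`. -/
noncomputable def beta {L : Type*} [Group L] [Fintype L] (K : Subgroup L) (ζ : L → ℂ) : L → ℂ :=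
  indFun K (fun _ => (1 : ℂ)) - ζ

variable {A : Set G} {L : Subgroup G} [Fintype L] {R : G → Subgroup G} {K : Subgroup L}
variable {τ₁ : (L → ℂ) → (G → ℂ)}
variable (D : KernelData A L R K τ₁)

include D

theorem KernelData.mem_irr {ψ : L → ℂ} (h : ψ ∈ inducedIrrAbove K ⊥) : IsIrrCharacter L ψ := by
  have := D.normal
  exact Coherence.frob_seq_irr K D.centK h

theorem KernelData.mem_off {ψ : L → ℂ} (h : ψ ∈ inducedIrrAbove K ⊥) {x : L} (hx : x ∉ K) :
    ψ x = 0 := by
  have := D.normal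
  exact Coherence.zspan_seq_supp K (Coherence.zspan_subset h) hx

theorem KernelData.conj_ne {ψ : L → ℂ} (h : ψ ∈ inducedIrrAbove K ⊥) : conjFun ψ ≠ ψ := by
  have := D.normal
  exact Coherence.frob_seq_conj_ne K D.odd D.ne_top D.centK h

theorem KernelData.gen {ψ : L → ℂ} (h : ψ ∈ inducedIrrAbove K ⊥) :
    IsGeneralizedCharacter G (τ₁ ψ) :=
  D.iso.2.2.2 _ (Coherence.zspan_subset h)

theorem KernelData.tau_inner {ψ ψ' : L → ℂ} (h : ψ ∈ inducedIrrAbove K ⊥)
    (h' : ψ' ∈ inducedIrrAbove K ⊥) :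
    classInner (τ₁ ψ) (τ₁ ψ') = if ψ = ψ' then 1 else 0 := by
  rw [D.iso.2.2.1 _ (Coherence.zspan_subset h) _ (Coherence.zspan_subset h')]
  split_ifs with e
  · subst e; exact Coherence.irr_inner_self (D.mem_irr h)
  · exact Coherence.irr_inner_ne (D.mem_irr h) (D.mem_irr h') e

theorem KernelData.signed {ψ : L → ℂ} (h : ψ ∈ inducedIrrAbove K ⊥) :
    IsIrrCharacter G (τ₁ ψ) ∨ IsIrrCharacter G (-(τ₁ ψ)) :=
  Coherence.gen_norm_one (D.gen h) (by rw [D.tau_inner h h, if_pos rfl])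

theorem KernelData.zspanOn_supp {α : L → ℂ}
    (hα : α ∈ zspanOn (inducedIrrAbove K ⊥) ({1}ᶜ : Set L)) :
    IsClassFunction L α ∧ ∀ x : L, (x : G) ∉ A → α x = 0 :=
  (PFTypeOne.dade_isometryOn D.dade (inducedIrrAbove K ⊥)
    (fun _ h => Coherence.irr_gen (D.mem_irr h))
    fun ψ h x hx hxA => D.mem_off h fun hxK => hxA ((D.setA x).2 ⟨hxK, hx⟩)).2.2 α hα

theorem KernelData.conj_sub_mem {ψ : L → ℂ} (h : ψ ∈ inducedIrrAbove K ⊥) :
    ψ - conjFun ψ ∈ zspanOn (inducedIrrAbove K ⊥) ({1}ᶜ : Set L) :=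
  Coherence.mem_zspanOn_one.2 ⟨Coherence.zspan_sub (Coherence.zspan_subset h)
    (Coherence.zspan_subset (Coherence.seq_conj K h)), by
      simp [Coherence.conjFun_one_of_char (Coherence.irr_isCharacter (D.mem_irr h))]⟩

theorem KernelData.member_inner_one {ψ : L → ℂ} (h : ψ ∈ inducedIrrAbove K ⊥) :
    classInner ψ (fun _ => (1 : ℂ)) = 0 :=
  Coherence.irr_inner_ne (D.mem_irr h) CharCore.isIrrCharacter_one fun e =>
    D.conj_ne h (by rw [e]; funext x; simp [conjFun])

/-- The images are orthogonal to the principal character. -/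
theorem KernelData.inner_one {ψ : L → ℂ} (h : ψ ∈ inducedIrrAbove K ⊥) :
    classInner (τ₁ ψ) (fun _ : G => (1 : ℂ)) = 0 := by
  have hc := Coherence.seq_conj K h
  have hm := D.conj_sub_mem h
  have h0 : classInner (τ₁ ψ) (fun _ : G => (1 : ℂ)) -
      classInner (τ₁ (conjFun ψ)) (fun _ : G => (1 : ℂ)) = 0 := by
    rw [← Coherence.inner_sub_left, ← Coherence.iso_map_sub D.iso (Coherence.zspan_subset h)
      (Coherence.zspan_subset hc) (Coherence.zspan_neg (Coherence.zspan_subset hc)), D.agree _ hm,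
      inner_dade_one D.dade (D.zspanOn_supp hm).1 (D.zspanOn_supp hm).2, Coherence.inner_sub_left,
      D.member_inner_one h, D.member_inner_one hc, sub_zero]
  have hone : IsIrrCharacter G (fun _ : G => (1 : ℂ)) := CharCore.isIrrCharacter_one
  have horth := D.tau_inner h hc
  rw [if_neg fun e => D.conj_ne h e.symm] at horth
  rcases D.signed h with s | s
  · by_cases e : τ₁ ψ = fun _ : G => (1 : ℂ)
    · rw [e] at h0 horth
      rw [Coherence.irr_inner_self hone, ← Coherence.inner_conj_symm (fun _ : G => (1 : ℂ)) _,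
        horth, map_zero, sub_zero] at h0
      exact absurd h0 one_ne_zero
    · exact Coherence.irr_inner_ne s hone e
  · by_cases e : -(τ₁ ψ) = fun _ : G => (1 : ℂ)
    · have e' : τ₁ ψ = -(fun _ : G => (1 : ℂ)) := by rw [← e, neg_neg]
      rw [e', Coherence.inner_neg_left, neg_eq_zero] at horth
      rw [e', Coherence.inner_neg_left, Coherence.irr_inner_self hone,
        ← Coherence.inner_conj_symm (fun _ : G => (1 : ℂ)) _, horth, map_zero, sub_zero] at h0
      exact absurd h0 (by norm_num)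
    · have := Coherence.irr_inner_ne s hone e
      rwa [Coherence.inner_neg_left, neg_eq_zero] at this

theorem KernelData.exists_min :
    ∃ ζ ∈ inducedIrrAbove K (⊥ : Subgroup L), ζ 1 = (K.index : ℂ) := by
  have := D.normal
  haveI := Coherence.kernel_nilpotent K D.ne_bot D.ne_top D.centK
  obtain ⟨θ, hθ, h1⟩ := Coherence.exists_linear K inferInstance (⊥ : Subgroup L)
    fun h => D.ne_bot (le_bot_iff.1 h)
  exact ⟨_, (Coherence.mem_seq_iff K).2 ⟨θ, hθ, rfl⟩, by
    rw [CharInd.indFun_apply_one, h1, mul_one]⟩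

/-- `|K| = n [L : K] + 1` with `n ≥ 2`. -/
theorem KernelData.exists_ratio : ∃ n : ℕ, 2 ≤ n ∧ Nat.card K = n * K.index + 1 := by
  have := D.normal
  obtain ⟨n, hn⟩ := Coherence.index_dvd_card_sub_one_of_le K D.centK K le_rfl
  have h1 : 1 < Nat.card K := (Subgroup.one_lt_card_iff_ne_bot K).2 D.ne_bot
  refine ⟨n, ?_, by rw [mul_comm, ← hn]; omega⟩
  have h0 : n ≠ 0 := fun e => by rw [e, mul_zero] at hn; omega
  by_contra hlt
  have : n = 1 := by omega
  rw [this, mul_one] at hn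
  obtain ⟨a, ha⟩ : Odd (Nat.card K) := D.odd.of_dvd_nat (Subgroup.card_subgroup_dvd_card _)
  obtain ⟨b, hb⟩ : Odd K.index := D.odd.of_dvd_nat K.index_dvd_card
  omega

theorem KernelData.sum_sq :
    ∑ ψ ∈ Coherence.seqFinset K ⊥, (ψ 1).re ^ 2 = (K.index : ℝ) * ((Nat.card K : ℝ) - 1) := by
  have := D.normal
  have h := Coherence.sum_seq K (⊥ : Subgroup L)
  rw [Coherence.sum_irrNP, Subgroup.relIndex_bot_left] at h
  rw [← h]
  refine Finset.sum_congr rfl fun ψ hψ => ?_
  have hirr := D.mem_irr ((Coherence.coe_seqFinset K ⊥) ▸ (Finset.mem_coe.2 hψ))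
  have h1 := Coherence.irr_inner_self hirr
  rw [Coherence.inner_self, Complex.ofReal_eq_one] at h1
  rw [h1, div_one]

theorem KernelData.ind_one_apply {x : L} (hx : x ∈ K) :
    indFun K (fun _ => (1 : ℂ)) x = (K.index : ℂ) := by
  have := D.normal
  rw [show x = ((⟨x, hx⟩ : K) : L) from rfl, OddChar.indFun_coe]
  simp only [OddChar.conjBy, Finset.sum_const, Finset.card_univ, nsmul_eq_mul, mul_one]
  rw [← Nat.card_eq_fintype_card, ← K.index_mul_card, Nat.cast_mul, mul_comm (K.index : ℂ),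
    inv_mul_cancel_left₀ (Nat.cast_ne_zero.2 Nat.card_pos.ne')]

theorem KernelData.ind_one_inner {ψ : L → ℂ} (h : ψ ∈ inducedIrrAbove K ⊥) :
    classInner (indFun K (fun _ => (1 : ℂ))) ψ = 0 := by
  have := D.normal
  haveI : Fintype K := Fintype.ofFinite _
  obtain ⟨θ, hθ, hne, -, rfl⟩ := h
  rw [OddChar.classInner_indFun_normal, Finset.sum_eq_zero, mul_zero]
  intro g _
  refine Coherence.irr_inner_ne CharCore.isIrrCharacter_one (OddChar.conjBy_isIrr K g hθ) ?_
  intro heq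
  refine hne (funext fun k => ?_)
  obtain ⟨k', rfl⟩ := (MulAut.conjNormal g : MulAut K).surjective k
  exact (congrFun heq k').symm

variable {ζ : L → ℂ} (hζ : ζ ∈ inducedIrrAbove K ⊥) (hζ1 : ζ 1 = (K.index : ℂ))

include hζ hζ1

theorem KernelData.beta_gen : IsGeneralizedCharacter L (beta K ζ) :=
  Coherence.gen_sub (Coherence.gen_of_char (CharInd.isCharacter_indFun K CharCore.isCharacter_one))
    (Coherence.irr_gen (D.mem_irr hζ))

theorem KernelData.beta_supp {x : L} (hx : (x : G) ∉ A) : beta K ζ x = 0 := by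
  have := D.normal
  rw [beta, Pi.sub_apply]
  by_cases hxK : x ∈ K
  · have hx1 : x = 1 := by_contra fun h => hx ((D.setA x).2 ⟨hxK, h⟩)
    subst hx1
    rw [D.ind_one_apply K.one_mem, hζ1, sub_self]
  · rw [OddChar.indFun_eq_zero_of_notMem K _ hxK, D.mem_off hζ hxK, sub_zero]

theorem KernelData.beta_class : IsClassFunction L (beta K ζ) :=
  PFTypeOne.gen_isClassFunction (D.beta_gen hζ hζ1)

theorem KernelData.beta_inner {ψ : L → ℂ} (h : ψ ∈ inducedIrrAbove K ⊥) :
    classInner (beta K ζ) ψ = if ψ = ζ then -1 else 0 := by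
  rw [beta, Coherence.inner_sub_left, D.ind_one_inner h]
  split_ifs with e
  · subst e; rw [Coherence.irr_inner_self (D.mem_irr h), zero_sub]
  · rw [Coherence.irr_inner_ne (D.mem_irr hζ) (D.mem_irr h) (Ne.symm e), sub_zero]

theorem KernelData.beta_inner_one : classInner (beta K ζ) (fun _ => (1 : ℂ)) = 1 := by
  haveI : Fintype K := Fintype.ofFinite _
  rw [beta, Coherence.inner_sub_left, CharInd.classInner_indFun_left _ _ (fun _ _ => rfl),
    D.member_inner_one hζ, sub_zero]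
  exact Coherence.irr_inner_self (χ := fun _ : K => (1 : ℂ)) CharCore.isIrrCharacter_one

theorem KernelData.beta_norm : classInner (beta K ζ) (beta K ζ) = (K.index : ℂ) + 1 := by
  have := D.normal
  haveI : Fintype K := Fintype.ofFinite _
  have e : classInner (beta K ζ) (indFun K (fun _ => (1 : ℂ))) = (K.index : ℂ) := by
    have h1 := D.ind_one_inner hζ
    rw [beta, Coherence.inner_sub_left, ← Coherence.inner_conj_symm _ ζ, h1, map_zero, sub_zero,
      CharInd.classInner_indFun_left _ _ (CharInd.isClassFunction_indFun K _)]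
    rw [CharCore.classInner_def, Finset.sum_congr rfl (g := fun _ => (K.index : ℂ)) fun k _ => by
      rw [D.ind_one_apply k.2, Complex.conj_natCast, one_mul]]
    rw [Finset.sum_const, Finset.card_univ, ← Nat.card_eq_fintype_card, nsmul_eq_mul,
      inv_mul_cancel_left₀ (Nat.cast_ne_zero.2 Nat.card_pos.ne')]
  conv_lhs => arg 2; rw [beta]
  rw [Coherence.inner_sub_right, e, D.beta_inner hζ hζ1 hζ, if_pos rfl, sub_neg_eq_add]

theorem KernelData.tau_beta_gen : IsGeneralizedCharacter G (dadeIsometry A L R (beta K ζ)) :=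
  S1501.result A L R D.dade _ (D.beta_gen hζ hζ1) fun _ h => D.beta_supp hζ hζ1 h

theorem KernelData.tau_beta_one :
    classInner (dadeIsometry A L R (beta K ζ)) (fun _ : G => (1 : ℂ)) = 1 := by
  rw [inner_dade_one D.dade (D.beta_class hζ hζ1) (fun _ h => D.beta_supp hζ hζ1 h),
    D.beta_inner_one hζ hζ1]

theorem KernelData.tau_beta_norm :
    classInner (dadeIsometry A L R (beta K ζ)) (dadeIsometry A L R (beta K ζ)) =
      (K.index : ℂ) + 1 := by
  rw [(S1500.result A L R D.dade _ (D.beta_class hζ hζ1) fun _ h => D.beta_supp hζ hζ1 h).1 _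
    (D.beta_class hζ hζ1) (fun _ h => D.beta_supp hζ hζ1 h), D.beta_norm hζ hζ1]

/-- (7.8)(a): the coefficients of `τ β` on the images. -/
theorem KernelData.beta_coeff :
    ∃ a : ℤ, ∀ ψ ∈ inducedIrrAbove K (⊥ : Subgroup L),
      classInner (dadeIsometry A L R (beta K ζ)) (τ₁ ψ) =
        ψ 1 / (K.index : ℂ) * a - if ψ = ζ then 1 else 0 := by
  obtain ⟨c, hc⟩ := Coherence.inner_gen_int (D.tau_beta_gen hζ hζ1) (D.gen hζ)
  refine ⟨c + 1, fun ψ hψ => ?_⟩
  have he : (K.index : ℂ) ≠ 0 := Nat.cast_ne_zero.2 Subgroup.index_ne_zero_of_finite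
  obtain ⟨d, hd, -⟩ := Coherence.char_one_nat (Coherence.irr_isCharacter (D.mem_irr hψ))
  have z1 : (K.index : ℤ) • ψ ∈ zspan (inducedIrrAbove K (⊥ : Subgroup L)) :=
    Coherence.zspan_zsmul _ (Coherence.zspan_subset hψ)
  have z2 : (d : ℤ) • ζ ∈ zspan (inducedIrrAbove K (⊥ : Subgroup L)) :=
    Coherence.zspan_zsmul _ (Coherence.zspan_subset hζ)
  have hm : (K.index : ℤ) • ψ - (d : ℤ) • ζ ∈
      zspanOn (inducedIrrAbove K (⊥ : Subgroup L)) ({1}ᶜ : Set L) :=
    Coherence.mem_zspanOn_one.2 ⟨Coherence.zspan_sub z1 z2, by simp [hd, hζ1]; ring⟩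
  have h := (S1500.result A L R D.dade _ (D.beta_class hζ hζ1)
    fun _ h => D.beta_supp hζ hζ1 h).1 _ (D.zspanOn_supp hm).1 (D.zspanOn_supp hm).2
  rw [← D.agree _ hm, Coherence.iso_map_sub D.iso z1 z2 (Coherence.zspan_neg z2),
    D.iso.2.1 _ (Coherence.zspan_subset hψ), D.iso.2.1 _ (Coherence.zspan_subset hζ)] at h
  simp only [Coherence.inner_sub_right, Coherence.inner_zsmul_right, hc,
    D.beta_inner hζ hζ1 hψ, D.beta_inner hζ hζ1 hζ, ↓reduceIte, Int.cast_natCast] at h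
  rw [hd, eq_sub_iff_add_eq, div_mul_eq_mul_div, eq_div_iff he]
  push_cast
  split_ifs with e
  · rw [if_pos e] at h; linear_combination h
  · rw [if_neg e] at h; linear_combination h

/-- (7.8)(b): the decomposition of `τ β`. -/
theorem KernelData.beta_decomp :
    ∃ (a : ℤ) (Γ : G → ℂ), IsGeneralizedCharacter G Γ ∧
      (∀ ψ ∈ inducedIrrAbove K (⊥ : Subgroup L),
        classInner (dadeIsometry A L R (beta K ζ)) (τ₁ ψ) =
          ψ 1 / (K.index : ℂ) * a - if ψ = ζ then 1 else 0) ∧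
      dadeIsometry A L R (beta K ζ) = (fun _ => 1) - τ₁ ζ +
        (∑ ψ ∈ Coherence.seqFinset K ⊥, ((a : ℂ) * (ψ 1 / (K.index : ℂ))) • τ₁ ψ) + Γ ∧
      classInner Γ (fun _ => (1 : ℂ)) = 0 ∧
      (∀ ψ ∈ inducedIrrAbove K (⊥ : Subgroup L), classInner Γ (τ₁ ψ) = 0) ∧
      Coherence.normSqFn Γ + (a : ℝ) ^ 2 * (((Nat.card K : ℝ) - 1) / K.index) =
        (K.index : ℝ) - 1 + 2 * a ∧
      Coherence.normSqFn Γ ≤ (K.index : ℝ) - 1 := by
  obtain ⟨a, ha⟩ := D.beta_coeff hζ hζ1
  set T := dadeIsometry A L R (beta K ζ) with hT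
  set S := Coherence.seqFinset K (⊥ : Subgroup L) with hSdef
  set Sig : G → ℂ := ∑ ψ ∈ S, ((a : ℂ) * (ψ 1 / (K.index : ℂ))) • τ₁ ψ with hSig
  have hS : ∀ {ψ : L → ℂ}, ψ ∈ S ↔ ψ ∈ inducedIrrAbove K (⊥ : Subgroup L) := fun {ψ} => by
    rw [hSdef, ← Finset.mem_coe, Coherence.coe_seqFinset]
  have he : (K.index : ℂ) ≠ 0 := Nat.cast_ne_zero.2 Subgroup.index_ne_zero_of_finite
  have hdeg : ∀ ψ ∈ S, ∃ m : ℤ, ψ 1 / (K.index : ℂ) = m := by
    intro ψ hψ
    obtain ⟨θ, hθ, -, -, rfl⟩ := hS.1 hψ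
    obtain ⟨m, hm, -⟩ := Coherence.char_one_nat (Coherence.irr_isCharacter hθ)
    exact ⟨m, by rw [CharInd.indFun_apply_one, mul_div_cancel_left₀ _ he, hm]; simp⟩
  have hSig_gen : IsGeneralizedCharacter G Sig := by
    refine Coherence.gen_sum _ _ fun ψ hψ => ?_
    obtain ⟨m, hm⟩ := hdeg ψ hψ
    rw [hm, show ((a : ℂ) * (m : ℂ)) = ((a * m : ℤ) : ℂ) by push_cast; ring, ← Coherence.zsmul_eq]
    exact Coherence.gen_zsmul (D.gen (hS.1 hψ)) _
  set one : G → ℂ := fun _ => 1 with hone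
  have honeirr : IsIrrCharacter G one := CharCore.isIrrCharacter_one
  set Γ : G → ℂ := T - one + τ₁ ζ - Sig with hΓ
  have hΓgen : IsGeneralizedCharacter G Γ := Coherence.gen_sub (Coherence.gen_add
    (Coherence.gen_sub (D.tau_beta_gen hζ hζ1) (Coherence.irr_gen honeirr)) (D.gen hζ)) hSig_gen
  have hSigS : ∀ ψ ∈ inducedIrrAbove K (⊥ : Subgroup L),
      classInner Sig (τ₁ ψ) = (a : ℂ) * (ψ 1 / (K.index : ℂ)) := by
    intro ψ hψ
    rw [hSig, Coherence.inner_sum_left, Finset.sum_eq_single ψ]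
    · rw [Coherence.inner_smul_left, D.tau_inner hψ hψ, if_pos rfl, mul_one]
    · intro φ hφ hne
      rw [Coherence.inner_smul_left, D.tau_inner (hS.1 hφ) hψ, if_neg hne, mul_zero]
    · exact fun h => absurd (hS.2 hψ) h
  have hone_tau : ∀ ψ ∈ inducedIrrAbove K (⊥ : Subgroup L), classInner one (τ₁ ψ) = 0 :=
    fun ψ hψ => by rw [← Coherence.inner_conj_symm, D.inner_one hψ, map_zero]
  have horth : ∀ ψ ∈ inducedIrrAbove K (⊥ : Subgroup L), classInner Γ (τ₁ ψ) = 0 := by
    intro ψ hψ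
    rw [hΓ, Coherence.inner_sub_left, Coherence.inner_add_left, Coherence.inner_sub_left,
      hone_tau ψ hψ, hSigS ψ hψ, ha ψ hψ, D.tau_inner hζ hψ]
    split_ifs with e1 e2
    · ring
    · exact absurd e1.symm e2
    · exact absurd (Eq.symm ‹_›) e1
    · ring
  have hSig1 : classInner Sig one = 0 := by
    rw [hSig, Coherence.inner_sum_left]
    exact Finset.sum_eq_zero fun ψ hψ => by
      rw [Coherence.inner_smul_left, D.inner_one (hS.1 hψ), mul_zero]
  have hΓ1 : classInner Γ one = 0 := by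
    rw [hΓ, Coherence.inner_sub_left, Coherence.inner_add_left, Coherence.inner_sub_left,
      D.tau_beta_one hζ hζ1, Coherence.irr_inner_self honeirr, D.inner_one hζ, hSig1]
    ring
  have hΓSig : classInner Γ Sig = 0 := by
    rw [hSig, Coherence.inner_sum_right]
    exact Finset.sum_eq_zero fun ψ hψ => by
      rw [Coherence.inner_smul_right, horth ψ (hS.1 hψ), mul_zero]
  have hTeq : T = one - τ₁ ζ + Sig + Γ := by rw [hΓ]; abel
  have hsum : ∑ ψ ∈ S, (ψ 1 / (K.index : ℂ)) * conj (ψ 1 / (K.index : ℂ)) =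
      ((((Nat.card K : ℝ) - 1) / K.index : ℝ) : ℂ) := by
    have he' : (K.index : ℝ) ≠ 0 := Nat.cast_ne_zero.2 Subgroup.index_ne_zero_of_finite
    have e2 : ∀ ψ ∈ S, (ψ 1 / (K.index : ℂ)) * conj (ψ 1 / (K.index : ℂ)) =
        ((((ψ 1).re ^ 2) / (K.index : ℝ) ^ 2 : ℝ) : ℂ) := by
      intro ψ hψ
      obtain ⟨d, hd, -⟩ := Coherence.char_one_nat (Coherence.irr_isCharacter (D.mem_irr (hS.1 hψ)))
      rw [hd, map_div₀, Complex.conj_natCast, Complex.conj_natCast, Complex.natCast_re]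
      push_cast
      ring
    rw [Finset.sum_congr rfl e2, ← Complex.ofReal_sum, ← Finset.sum_div, D.sum_sq]
    congr 1
    field_simp
  have hSigSig : classInner Sig Sig =
      (a : ℂ) ^ 2 * ((((Nat.card K : ℝ) - 1) / K.index : ℝ) : ℂ) := by
    conv_lhs => arg 2; rw [hSig]
    rw [Coherence.inner_sum_right, ← hsum, Finset.mul_sum]
    refine Finset.sum_congr rfl fun ψ hψ => ?_
    rw [Coherence.inner_smul_right, hSigS ψ (hS.1 hψ), map_mul, map_intCast]
    ring
  have h11 := Coherence.irr_inner_self honeirr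
  have hzz : classInner (τ₁ ζ) (τ₁ ζ) = 1 := by rw [D.tau_inner hζ hζ, if_pos rfl]
  have hSz : classInner Sig (τ₁ ζ) = (a : ℂ) := by
    rw [hSigS ζ hζ, hζ1, div_self he, mul_one]
  have hnorm : classInner Γ Γ + (a : ℂ) ^ 2 * ((((Nat.card K : ℝ) - 1) / K.index : ℝ) : ℂ) =
      (K.index : ℂ) - 1 + 2 * a := by
    have h := D.tau_beta_norm hζ hζ1
    rw [← hT, hTeq] at h
    simp only [Coherence.inner_add_left, Coherence.inner_add_right, Coherence.inner_sub_left,
      Coherence.inner_sub_right, h11, hzz, hΓ1, horth ζ hζ, hΓSig, hSig1, hSz, hSigSig,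
      hone_tau ζ hζ] at h
    have c1 : classInner one Sig = 0 := by rw [← Coherence.inner_conj_symm, hSig1, map_zero]
    have c2 : classInner (τ₁ ζ) Sig = (a : ℂ) := by
      rw [← Coherence.inner_conj_symm, hSz, map_intCast]
    have c3 : classInner one Γ = 0 := by rw [← Coherence.inner_conj_symm, hΓ1, map_zero]
    have c4 : classInner (τ₁ ζ) Γ = 0 := by
      rw [← Coherence.inner_conj_symm, horth ζ hζ, map_zero]
    have c5 : classInner Sig Γ = 0 := by rw [← Coherence.inner_conj_symm, hΓSig, map_zero]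
    have c6 : classInner one (τ₁ ζ) = 0 := hone_tau ζ hζ
    have c7 : classInner (τ₁ ζ) one = 0 := D.inner_one hζ
    rw [c1, c2, c3, c4, c5, c7] at h
    linear_combination h
  rw [Coherence.inner_self] at hnorm
  have hre : Coherence.normSqFn Γ + (a : ℝ) ^ 2 * (((Nat.card K : ℝ) - 1) / K.index) =
      (K.index : ℝ) - 1 + 2 * a := by
    apply Complex.ofReal_injective
    push_cast at hnorm ⊢
    linear_combination hnorm
  refine ⟨a, Γ, hΓgen, ha, hTeq, hΓ1, horth, hre, ?_⟩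
  obtain ⟨n, hn2, hn⟩ := D.exists_ratio
  have hdiv : ((Nat.card K : ℝ) - 1) / K.index = (n : ℝ) := by
    rw [hn]; push_cast
    rw [add_sub_cancel_right, mul_div_assoc,
      div_self (Nat.cast_ne_zero.2 Subgroup.index_ne_zero_of_finite), mul_one]
  rw [hdiv] at hre
  have hkey : 2 * a ≤ a ^ 2 * (n : ℤ) := by
    have h2 : (2 : ℤ) ≤ n := by exact_mod_cast hn2
    rcases le_or_gt a 0 with h | h
    · nlinarith [mul_nonneg (sq_nonneg a) (by omega : (0 : ℤ) ≤ n)]
    · nlinarith [mul_le_mul_of_nonneg_left h2 (sq_nonneg a)]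
  have hkey' : 2 * (a : ℝ) ≤ (a : ℝ) ^ 2 * (n : ℝ) := by exact_mod_cast hkey
  linarith

end Cfsg.Agent.PF7
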