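import Cfsg.Agent.S1525
import Cfsg.Agent.OddChar.DadeIsometry
import Cfsg.Agent.Coherence.Inner

/-!
Peterfalvi (7.1)-(7.5): the adjoint `ρ` of the Dade map and the norm inequalities.
-/

set_option autoImplicit false

namespace Cfsg.Agent.PF7

open Cfsg
open scoped ComplexConjugate Classical

variable {G : Type*} [Group G] {A : Set G} {L : Subgroup G} {R : G → Subgroup G}

/-- The function `ρ φ` on `L`: on `a ∈ A` the mean of `φ` on `a R(a)`, elsewhere `0`. -/
noncomputable def rho (A : Set G) (L : Subgroup G) (R : G → Subgroup G) (φ : G → ℂ) : L → ℂ :=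
  fun a => if (a : G) ∈ A then
    (Nat.card (R (a : G)) : ℂ)⁻¹ * ∑ᶠ u ∈ (R (a : G) : Set G), φ ((a : G) * u) else 0

theorem rho_of_mem {φ : G → ℂ} {a : L} (ha : (a : G) ∈ A) :
    rho A L R φ a = (Nat.card (R (a : G)) : ℂ)⁻¹ * ∑ᶠ u ∈ (R (a : G) : Set G), φ ((a : G) * u) :=
  if_pos ha

theorem rho_of_notMem {φ : G → ℂ} {a : L} (ha : (a : G) ∉ A) : rho A L R φ a = 0 := if_neg ha

variable [Fintype G]

theorem rho_eq_sum (φ : G → ℂ) {a : L} (ha : (a : G) ∈ A) :
    rho A L R φ a = (Nat.card (R (a : G)) : ℂ)⁻¹ * ∑ u : R (a : G), φ ((a : G) * u) := by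
  rw [rho_of_mem ha, finsum_mem_eq_finite_toFinset_sum _ (Set.toFinite _),
    Finset.sum_subtype (p := fun u => u ∈ R (a : G)) _ (fun u => by simp)]

theorem rho_const (hD : DadeHypothesis A L R) (c : ℂ) {a : L} (ha : (a : G) ∈ A) :
    rho A L R (fun _ => c) a = c := by
  rw [rho_eq_sum _ ha, Finset.sum_const, Finset.card_univ, ← Nat.card_eq_fintype_card,
    nsmul_eq_mul, inv_mul_cancel_left₀ (Nat.cast_ne_zero.2 Nat.card_pos.ne')]

theorem isClassFunction_rho (hD : DadeHypothesis A L R) {φ : G → ℂ} (hφ : IsClassFunction G φ) :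
    IsClassFunction L (rho A L R φ) := by
  intro a x
  by_cases ha : (a : G) ∈ A
  · have hb : ((x * a * x⁻¹ : L) : G) ∈ A := by
      push_cast
      exact hD.conj_mem _ x.2 _ ha
    rw [rho_eq_sum _ ha, rho_eq_sum _ hb]
    let e : R (a : G) → R ((x * a * x⁻¹ : L) : G) := fun u =>
      ⟨(x : G) * u * (x : G)⁻¹, by push_cast; exact OddChar.dade_H_conj_mem hD ha x.2 u.2⟩
    have he : Function.Bijective e := by
      rw [Fintype.bijective_iff_injective_and_card]
      refine ⟨fun u v h => Subtype.ext (mul_left_cancel (mul_right_cancel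
        (congrArg Subtype.val h :))), ?_⟩
      rw [← Nat.card_eq_fintype_card, ← Nat.card_eq_fintype_card]
      push_cast
      rw [OddChar.dade_H_conj hD ha x.2,
        Subgroup.card_map_of_injective (MulEquiv.injective (MulAut.conj (x : G)))]
    rw [Nat.card_congr (Equiv.ofBijective e he)]
    refine congrArg _ (Fintype.sum_bijective e he _ _ fun u => ?_).symm
    rw [← hφ ((a : G) * u) (x : G)]
    simp only [e]
    push_cast
    congr 1
    group
  · have hb : ((x * a * x⁻¹ : L) : G) ∉ A := by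
      intro h
      push_cast at h
      have := hD.conj_mem _ (L.inv_mem x.2) _ h
      exact ha (by simpa [mul_assoc] using this)
    rw [rho_of_notMem ha, rho_of_notMem hb]

variable [Fintype L]

/-- Adjointness. -/
theorem inner_dade (hD : DadeHypothesis A L R) {α : L → ℂ} (hα : IsClassFunction L α)
    (hαA : ∀ x : L, (x : G) ∉ A → α x = 0) {φ : G → ℂ} (hφ : IsClassFunction G φ) :
    classInner (dadeIsometry A L R α) φ = classInner α (rho A L R φ) :=
  OddChar.classInner_dade hD hα hαA hφ _ fun _ ha => rho_of_mem ha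

theorem inner_dade_right (hD : DadeHypothesis A L R) {α : L → ℂ} (hα : IsClassFunction L α)
    (hαA : ∀ x : L, (x : G) ∉ A → α x = 0) {φ : G → ℂ} (hφ : IsClassFunction G φ) :
    classInner φ (dadeIsometry A L R α) = classInner (rho A L R φ) α := by
  rw [← Coherence.inner_conj_symm, inner_dade hD hα hαA hφ, Coherence.inner_conj_symm]

theorem inner_dade_one (hD : DadeHypothesis A L R) {α : L → ℂ} (hα : IsClassFunction L α)
    (hαA : ∀ x : L, (x : G) ∉ A → α x = 0) :
    classInner (dadeIsometry A L R α) (fun _ : G => (1 : ℂ)) = classInner α (fun _ => 1) := by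
  rw [inner_dade hD hα hαA (fun _ _ => rfl)]
  simp only [classInner]
  refine congrArg _ (Finset.sum_congr rfl fun x _ => ?_)
  by_cases hx : (x : G) ∈ A
  · rw [rho_const hD 1 hx]
  · rw [hαA x hx, zero_mul, zero_mul]

/-- (7.2): the norm of `ρ φ` is at most the part of the norm of `φ` on the support. -/
theorem rho_norm_le (hD : DadeHypothesis A L R) {φ : G → ℂ} (hφ : IsClassFunction G φ) :
    Coherence.normSqFn (rho A L R φ) ≤
      (Nat.card G : ℝ)⁻¹ * ∑ g ∈ Finset.univ.filter (· ∈ Coherence.dadeSupp A R), ‖φ g‖ ^ 2 := by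
  have h := S1525.result A L R hD φ hφ (rho A L R φ) fun _ ha => rho_of_mem ha
  have hl : ∑ᶠ a ∈ {a : L | (a : G) ∈ A}, ‖rho A L R φ a‖ ^ 2 =
      ∑ a : L, ‖rho A L R φ a‖ ^ 2 :=
    (finsum_mem_eq_sum_of_inter_support_eq _ (t := Finset.univ) (by
      ext a
      simp only [Set.mem_inter_iff, Set.mem_setOf_eq, Function.mem_support, Finset.coe_univ,
        Set.mem_univ, true_and, and_iff_right_iff_imp]
      intro h0
      by_contra ha
      exact h0 (by simp [rho_of_notMem ha])))
  have hr : ∑ᶠ g ∈ {g : G | ∃ a ∈ A, ∃ u ∈ R a, ∃ x : G, x * g * x⁻¹ = a * u}, ‖φ g‖ ^ 2 =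
      ∑ g ∈ Finset.univ.filter (· ∈ Coherence.dadeSupp A R), ‖φ g‖ ^ 2 :=
    finsum_mem_eq_sum_of_inter_support_eq _ (by
      ext g
      simp only [Set.mem_inter_iff, Finset.mem_coe, Finset.mem_filter, Finset.mem_univ, true_and]
      exact Iff.rfl)
  rw [hl, hr] at h
  exact h

/-- The proportion of `G` covered by the support. -/
theorem supp_card (hD : DadeHypothesis A L R) :
    (Nat.card L : ℝ) * (Finset.univ.filter (· ∈ Coherence.dadeSupp A R)).card =
      (Nat.card G : ℝ) * (Finset.univ.filter (· ∈ A)).card := by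
  have h := Coherence.dade_sum_eq hD (fun _ => (1 : ℝ)) fun _ _ => rfl
  simp only [Finset.sum_const, nsmul_eq_mul, mul_one, Finset.card_univ] at h
  rw [h]
  congr 1
  rw [Finset.sum_congr rfl (g := fun _ => (1 : ℝ)) fun a _ => ?_, Finset.sum_const, nsmul_eq_mul,
    mul_one]
  rw [← Nat.card_eq_fintype_card, inv_mul_cancel₀ (Nat.cast_ne_zero.2 Nat.card_pos.ne')]

theorem one_notMem_supp (hD : DadeHypothesis A L R) : (1 : G) ∉ Coherence.dadeSupp A R := by
  rintro ⟨a, ha, u, hu, x, he⟩
  have hu' : u = a⁻¹ := eq_inv_of_mul_eq_one_right (by rw [← he]; group)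
  have hm : a ∈ R a := by simpa [hu'] using hu
  have h2 : a ∈ R a ⊓ (L ⊓ Subgroup.centralizer ({a} : Set G)) :=
    ⟨hm, hD.subset ha, Subgroup.mem_centralizer_singleton_iff.2 rfl⟩
  rw [hD.inf_eq_bot _ ha, Subgroup.mem_bot] at h2
  exact hD.one_not_mem (h2 ▸ ha)

theorem inner_eq_zero_of_disjoint {A' : Set G} {L' : Subgroup G} [Fintype L']
    {R' : G → Subgroup G} (hD : DadeHypothesis A L R) (hD' : DadeHypothesis A' L' R')
    (hdis : Disjoint (Coherence.dadeSupp A R) (Coherence.dadeSupp A' R'))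
    (α : L → ℂ) (α' : L' → ℂ) :
    classInner (dadeIsometry A L R α) (dadeIsometry A' L' R' α') = 0 := by
  rw [classInner, Finset.sum_eq_zero, mul_zero]
  intro g _
  by_cases h : g ∈ Coherence.dadeSupp A R
  · rw [OddChar.dadeIsometry_notMem α' hD' (Set.disjoint_left.1 hdis h), map_zero, mul_zero]
  · rw [OddChar.dadeIsometry_notMem α hD h, zero_mul]

omit [Fintype L] in
/-- (7.5): the inequality for several Dade data with disjoint supports. -/
theorem family_norm_le {ι : Type*} [Fintype ι] (A : ι → Set G) (L : ι → Subgroup G)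
    [∀ i, Fintype (L i)] (R : ι → G → Subgroup G) (hD : ∀ i, DadeHypothesis (A i) (L i) (R i))
    (hdis : ∀ i j, i ≠ j →
      Disjoint (Coherence.dadeSupp (A i) (R i)) (Coherence.dadeSupp (A j) (R j)))
    {φ : G → ℂ} (hφ : IsClassFunction G φ) :
    (Nat.card G : ℝ)⁻¹ * ∑ g ∈ Finset.univ.filter
        (fun g => ∀ i, g ∉ Coherence.dadeSupp (A i) (R i)), ‖φ g‖ ^ 2 +
      ∑ i, Coherence.normSqFn (rho (A i) (L i) (R i) φ) ≤ Coherence.normSqFn φ := by
  refine le_trans (add_le_add le_rfl (Finset.sum_le_sum fun i _ => rho_norm_le (hD i) hφ)) ?_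
  rw [← Finset.mul_sum, ← mul_add, Coherence.normSqFn]
  refine le_of_eq (congrArg _ ?_)
  rw [← Finset.sum_biUnion (fun i _ j _ hij => ?_),
    ← Finset.sum_union (Finset.disjoint_left.2 fun g hg hg' => ?_)]
  · refine Finset.sum_congr (Finset.eq_univ_iff_forall.2 fun g => ?_) fun _ _ => rfl
    simp only [Finset.mem_union, Finset.mem_filter, Finset.mem_univ, true_and, Finset.mem_biUnion]
    by_cases h : ∀ i, g ∉ Coherence.dadeSupp (A i) (R i)
    · exact Or.inl h
    · push Not at h
      exact Or.inr h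
  · simp only [Finset.mem_biUnion, Finset.mem_filter, Finset.mem_univ, true_and] at hg hg'
    obtain ⟨i, hi⟩ := hg'
    exact hg i hi
  · refine Finset.disjoint_left.2 fun g hg hg' => ?_
    exact Set.disjoint_left.1 (hdis i j hij) (Finset.mem_filter.1 hg).2 (Finset.mem_filter.1 hg').2

end Cfsg.Agent.PF7
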