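import Cfsg.Agent.PF7.KernelRho

/-!
Peterfalvi (7.10)-(7.11): counting over several supports.
-/

set_option autoImplicit false

namespace Cfsg.Agent.PF7

open Cfsg
open scoped ComplexConjugate Classical

variable {G : Type*} [Group G] [Fintype G]

/-- The elements outside every support. -/
noncomputable def rest {ι : Type*} (A : ι → Set G) (R : ι → G → Subgroup G) : Finset G :=
  Finset.univ.filter fun g => ∀ i, g ∉ Coherence.dadeSupp (A i) (R i)

theorem one_mem_rest {ι : Type*} {A : ι → Set G} {L : ι → Subgroup G} {R : ι → G → Subgroup G}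
    (hD : ∀ i, DadeHypothesis (A i) (L i) (R i)) : (1 : G) ∈ rest A R :=
  Finset.mem_filter.2 ⟨Finset.mem_univ _, fun i => one_notMem_supp (hD i)⟩

/-- The partition of `G` by disjoint supports. -/
theorem rest_add_sum {ι : Type*} [Fintype ι] (A : ι → Set G) (L : ι → Subgroup G)
    (R : ι → G → Subgroup G) (hD : ∀ i, DadeHypothesis (A i) (L i) (R i))
    (hdis : ∀ i j, i ≠ j →
      Disjoint (Coherence.dadeSupp (A i) (R i)) (Coherence.dadeSupp (A j) (R j))) :
    ((rest A R).card : ℝ) / Nat.card G +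
      ∑ i, ((Finset.univ.filter (· ∈ A i)).card : ℝ) / Nat.card (L i) = 1 := by
  have hG : (Nat.card G : ℝ) ≠ 0 := Nat.cast_ne_zero.2 Nat.card_pos.ne'
  have e : ∀ i, ((Finset.univ.filter (· ∈ A i)).card : ℝ) / Nat.card (L i) =
      ((Finset.univ.filter (· ∈ Coherence.dadeSupp (A i) (R i))).card : ℝ) / Nat.card G := by
    intro i
    rw [div_eq_div_iff (Nat.cast_ne_zero.2 Nat.card_pos.ne') hG]
    have := supp_card (hD i)
    linear_combination -this
  rw [Finset.sum_congr rfl fun i _ => e i, ← Finset.sum_div, ← add_div, div_eq_one_iff_eq hG,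
    ← Nat.cast_sum, ← Finset.card_biUnion (fun i _ j _ hij => ?_), ← Nat.cast_add,
    ← Finset.card_union_of_disjoint (Finset.disjoint_left.2 fun g hg hg' => ?_)]
  · rw [Nat.cast_inj, Nat.card_eq_fintype_card, ← Finset.card_univ]
    congr 1
    refine Finset.eq_univ_iff_forall.2 fun g => ?_
    simp only [rest, Finset.mem_union, Finset.mem_filter, Finset.mem_univ, true_and,
      Finset.mem_biUnion]
    by_cases h : ∀ i, g ∉ Coherence.dadeSupp (A i) (R i)
    · exact Or.inl h
    · push Not at h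
      exact Or.inr h
  · simp only [rest, Finset.mem_biUnion, Finset.mem_filter, Finset.mem_univ, true_and] at hg hg'
    obtain ⟨i, hi⟩ := hg'
    exact hg i hi
  · refine Finset.disjoint_left.2 fun g hg hg' => ?_
    exact Set.disjoint_left.1 (hdis i j hij) (Finset.mem_filter.1 hg).2 (Finset.mem_filter.1 hg').2

theorem KernelData.card_A {A : Set G} {L : Subgroup G} [Fintype L] {R : G → Subgroup G}
    {K : Subgroup L} {τ₁ : (L → ℂ) → (G → ℂ)} (D : KernelData A L R K τ₁) :
    ((Finset.univ.filter (· ∈ A)).card : ℝ) = (Nat.card K : ℝ) - 1 := by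
  haveI : Fintype K := Fintype.ofFinite _
  have e : Finset.univ.filter (· ∈ A) =
      (((Finset.univ : Finset L).filter (· ∈ K)).erase 1).map ⟨Subtype.val, Subtype.val_injective⟩ := by
    ext g
    simp only [Finset.mem_filter, Finset.mem_univ, true_and, Finset.mem_map, Finset.mem_erase,
      Function.Embedding.coeFn_mk]
    constructor
    · intro hg
      obtain ⟨h1, h2⟩ := (D.setA ⟨g, D.dade.subset hg⟩).1 hg
      exact ⟨_, ⟨h2, h1⟩, rfl⟩
    · rintro ⟨x, ⟨h2, h1⟩, rfl⟩
      exact (D.setA x).2 ⟨h1, h2⟩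
  rw [e, Finset.card_map, Finset.card_erase_of_mem (by simp [K.one_mem]),
    show ((Finset.univ : Finset L).filter fun x => x ∈ K).card = Nat.card K by
      rw [Nat.card_eq_fintype_card, ← Fintype.card_subtype],
    Nat.cast_sub Nat.card_pos, Nat.cast_one]

/-- (7.10): the norm inequality for `τ₁ ζ` of one member of a family of kernels. -/
theorem KernelData.family_ineq {ι : Type*} [Fintype ι] (A : ι → Set G) (L : ι → Subgroup G)
    [∀ i, Fintype (L i)] (R : ι → G → Subgroup G) (K : ∀ i, Subgroup (L i))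
    (τ : ∀ i, (L i → ℂ) → (G → ℂ)) (D : ∀ i, KernelData (A i) (L i) (R i) (K i) (τ i))
    (hdis : ∀ i j, i ≠ j →
      Disjoint (Coherence.dadeSupp (A i) (R i)) (Coherence.dadeSupp (A j) (R j)))
    (ζ : ∀ i, L i → ℂ) (hζ : ∀ i, ζ i ∈ inducedIrrAbove (K i) ⊥)
    (hζ1 : ∀ i, ζ i 1 = ((K i).index : ℂ)) (i : ι) :
    (Nat.card G : ℝ)⁻¹ * ∑ g ∈ rest A R, ‖τ i (ζ i) g‖ ^ 2 +
        (1 - ((K i).index : ℝ) / Nat.card (K i)) +
        ∑ j ∈ Finset.univ.erase i,
          ‖classInner (dadeIsometry (A j) (L j) (R j) (beta (K j) (ζ j))) (τ i (ζ i))‖ ^ 2 *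
            ((Nat.card (K j) : ℝ) - 1) / Nat.card (L j) ≤ 1 := by
  have hcl : IsClassFunction G (τ i (ζ i)) := PFTypeOne.gen_isClassFunction ((D i).gen (hζ i))
  have h := family_norm_le A L R (fun j => (D j).dade) hdis hcl
  have h1 : Coherence.normSqFn (τ i (ζ i)) = 1 := by
    have h' := (D i).tau_inner (hζ i) (hζ i)
    rwa [if_pos rfl, Coherence.inner_self, Complex.ofReal_eq_one] at h'
  rw [h1, ← Finset.add_sum_erase _ _ (Finset.mem_univ i)] at h
  have hsum : ∑ j ∈ Finset.univ.erase i,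
        ‖classInner (dadeIsometry (A j) (L j) (R j) (beta (K j) (ζ j))) (τ i (ζ i))‖ ^ 2 *
          ((Nat.card (K j) : ℝ) - 1) / Nat.card (L j) =
      ∑ j ∈ Finset.univ.erase i, Coherence.normSqFn (rho (A j) (L j) (R j) (τ i (ζ i))) := by
    refine Finset.sum_congr rfl fun j hj => ?_
    rw [(D j).rho_norm_orth (hζ j) (hζ1 j) hcl fun ψ hψ =>
        (D i).images_orth (D j) (hdis i j (Finset.ne_of_mem_erase hj).symm) (hζ i) hψ,
      ← Coherence.inner_conj_symm (τ i (ζ i)), Complex.norm_conj]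
  have hs := (D i).rho_norm_self (hζ i) (hζ1 i)
  have er : rest A R = Finset.univ.filter fun g => ∀ j, g ∉ Coherence.dadeSupp (A j) (R j) := by
    ext g; simp [rest]
  rw [hsum, er]
  linarith

end Cfsg.Agent.PF7
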